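import Cfsg.Agent.Lib.FusionBasics.Reduction.Steps
import Cfsg.Prelude.Def_Local

/-!
The normal envelope over `T C_S(T)` when `Aut_F(T)/Aut_E(T)` is `p`-solvable.
-/

set_option autoImplicit false
set_option linter.style.haveILetI false
set_option linter.unusedSectionVars false

namespace CfsgLib.FusionBasics.Reduction

open Cfsg Cfsg.FusionSystem CfsgLib.Alperin CfsgLib.FusionSub

universe u

variable {Ω : Type u} [Group Ω] {S T : Subgroup Ω} [Finite S] {p : ℕ} [Fact p.Prime]
  {F : FusionSystem S} {E : FusionSystem T}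

theorem exists_envelope (hS : IsPGroup p S) (hE : E.IsNormalIn F p)
    [hn : ((E.autGroup T).subgroupOf (F.autGroup T)).Normal]
    (hsolv : IsPSolvable p (↥(F.autGroup T) ⧸ (E.autGroup T).subgroupOf (F.autGroup T))) :
    ∃ K : FusionSystem (T ⊔ centralizerIn S T), K.IsNormalIn F p ∧ E.IsSubsystemOf K ∧
      K.autGroup T = E.autGroup T ∧ ∀ {U : Subgroup Ω} (L : FusionSystem U),
        L.IsWeaklyNormalIn F p → Stable L p → L.IsSubsystemOf K := by
  have hT := hE.1.2.2.2.1
  have hF := hE.1.2.1
  set AE := (E.autGroup T).subgroupOf (F.autGroup T) with hAE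
  obtain ⟨n, G, h0, hn', hmono, hG, hstep⟩ := hsolv
  set H : Fin (n + 1) → Subgroup (F.autGroup T) := fun i =>
    (G i).comap (QuotientGroup.mk' AE) with hH
  have hHA : ∀ i, AE ≤ H i := fun i x hx => by
    show QuotientGroup.mk' AE x ∈ G i
    rw [show QuotientGroup.mk' AE x = 1 from (QuotientGroup.eq_one_iff x).mpr hx]
    exact one_mem _
  haveI : ∀ i, (H i).Normal := fun i => (hG i).comap _
  have hall : ∀ i : Fin (n + 1), Env F E p hT (H i) := by
    refine Fin.reverseInduction ?_ fun i ih => ?_
    · have e : H (Fin.last n) = ⊤ := by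
        show (G (Fin.last n)).comap _ = ⊤
        rw [hn', Subgroup.comap_top]
      rw [e]
      exact env_top hF hT hE.1.2.2.1
    · have hle : H i.castSucc ≤ H i.succ :=
        Subgroup.comap_mono (hmono (Fin.castSucc_lt_succ (i := i)).le)
      have hrel : (H i.castSucc).relIndex (H i.succ) =
          (G i.castSucc).relIndex (G i.succ) := by
        show ((G i.castSucc).comap _).relIndex _ = _
        rw [Subgroup.relIndex_comap,
          Subgroup.map_comap_eq_self_of_surjective (QuotientGroup.mk'_surjective AE)]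
      rcases hstep i with ⟨m, hm⟩ | hco
      · exact env_pPower hS hE hT hle (hHA _) (hrel.trans hm) ih
      · exact env_coprime hS hE hT hle (hHA _) (hrel.symm ▸ hco) ih
  have e0 : H 0 = AE := by
    show (G 0).comap _ = AE
    rw [h0, MonoidHom.comap_bot, QuotientGroup.ker_mk']
  obtain ⟨R, K, hd⟩ := hall 0
  obtain rfl : R = T ⊔ centralizerIn S T := by
    rw [hd.base, e0, rOf_bottom hS hT hE.1.1]
  refine ⟨K, hd.normal, hd.contains, le_antisymm (fun a ha => ?_)
    (CfsgLib.FusionSub.autGroup_mono hd.contains T), fun L hL hst => hd.limit L hL hst⟩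
  have haF := CfsgLib.FusionSub.autGroup_mono hd.normal.1.2.2.1 T ha
  exact Subgroup.mem_subgroupOf.mp (e0.le (hd.aut ⟨a, haF⟩ ha))

/-- A normal subsystem containing the residual limit has the same residual limit. -/
theorem limit_hom_eq (hS : IsPGroup p S) {R U V : Subgroup Ω} {K : FusionSystem R}
    (hK : K.IsWeaklyNormalIn F p) {Finf : FusionSystem U} (hFinf : Finf.IsResidualLimitOf F p)
    (hle : Finf.IsSubsystemOf K) {L : FusionSystem V} (hL : L.IsResidualLimitOf K p)
    (P : Subgroup Ω) : L.Hom P = Finf.Hom P := by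
  have hF := hK.2.1
  have hRS := hK.2.2.2.1.1
  haveI := finite_of_le hRS
  have hFn := limit_weaklyNormal hS (Layer.isNormalIn_self hF).1 hFinf
  refine Set.Subset.antisymm
    (stable_le_limit hS hFinf (limit_weaklyNormal hS hK hL) (limit_stable hL) P) ?_
  exact stable_le_limit (isPGroup_of_le hS hRS) hL
    (weaklyNormal_of_le hS hK.1 hK.2.2.1 hle hFn) (limit_stable hFinf) P

end CfsgLib.FusionBasics.Reduction
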