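import Cfsg.Agent.Lib.FusionBasics.Central.CentralizerE
import Cfsg.Agent.Lib.FusionBasics.Reduction.Envelope

/-!
Automorphisms of order prime to `p` fixing `T` displace `C_S(T)` by elements centralizing `E`.
-/

set_option autoImplicit false
set_option linter.style.haveILetI false
set_option linter.unusedSectionVars false
set_option maxHeartbeats 1000000

namespace CfsgLib.FusionBasics.Reduction

open Cfsg Cfsg.FusionSystem CfsgLib.Alperin CfsgLib.FusionSub CfsgLib.FusionBasics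
open CfsgLib.Alperin.NormalLift CfsgLib.FusionBasics.Central

universe u

variable {Ω : Type u} [Group Ω] {S T : Subgroup Ω} [Finite S] {p : ℕ} [Fact p.Prime]
  {F : FusionSystem S} {E : FusionSystem T}

/-- An inverse of `m` modulo `p ^ k`. -/
theorem exists_pow_inverse {G : Type*} [Group G] {m k : ℕ} (hm : m.Coprime p)
    (hG : ∀ g : G, g ^ p ^ k = 1) : ∃ j, ∀ g : G, g ^ (m * j) = g := by
  have hp : 0 < Nat.totient (p ^ k) :=
    Nat.totient_pos.mpr (pow_pos (Fact.out : p.Prime).pos k)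
  refine ⟨m ^ (Nat.totient (p ^ k) - 1), fun g => ?_⟩
  rw [← pow_succ', Nat.sub_add_cancel hp]
  refine Eq.trans ?_ (pow_one g)
  exact pow_eq_pow_iff_modEq.mpr ((Nat.ModEq.pow_totient (hm.pow_right k)).of_dvd
    (orderOf_dvd_of_pow_eq_one (hG g)))

/-- The displacement is fixed by an extension of each automorphism of an `E`-centric subgroup. -/
theorem fix_displacement_aut (hS : IsPGroup p S) (hE : E.IsNormalIn F p) {Q : Subgroup Ω}
    (hQ : E.IsCentric Q) {α : MulAut Q} (hα : α ∈ E.autGroup Q) {W : Subgroup Ω} (hTW : T ≤ W)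
    (hWS : W ≤ S) {δ : MulAut W} (hδ : δ ∈ F.autGroup W) (hco : (orderOf δ).Coprime p)
    (hfix : ∀ x : W, (x : Ω) ∈ T → δ x = x) {c : W} (hc : (c : Ω) ∈ centralizerIn S T) :
    FixY F (Subgroup.zpowers ((c : Ω)⁻¹ * ((δ c : W) : Ω))) Q
      (Q.subtype.comp α.toMonoidHom) := by
  classical
  have hT := hE.1.2.2.2.1
  have hQT := hQ.1
  have hQS := hQT.trans hT.1
  haveI := finite_of_le hT.1
  haveI := finite_of_le hQS
  set C := W ⊓ centralizerIn S T with hCd
  set V := Q ⊔ C with hV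
  have hQW : Q ≤ W := hQT.trans hTW
  have hVW : V ≤ W := sup_le hQW inf_le_left
  have hVS : V ≤ S := hVW.trans hWS
  haveI := finite_of_le hVS
  have hQV : Q ≤ V := le_sup_left
  have hincQ : ∀ q : Q, ((Subgroup.inclusion hQV q : V) : Ω) ∈ Q := fun q => q.2
  have hCV : C ≤ V := le_sup_right
  -- `δ` on `C`
  have hδC : ∀ x : W, (x : Ω) ∈ C → ((δ x : W) : Ω) ∈ C := fun x hx => by
    refine ⟨(δ x).2, hWS (δ x).2, fun t ht => ?_⟩
    have h1 : δ (⟨t, hTW ht⟩ * x) = δ (x * ⟨t, hTW ht⟩) :=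
      congrArg δ (Subtype.ext (hx.2.2 t ht))
    rw [map_mul, map_mul, hfix ⟨t, hTW ht⟩ ht] at h1
    exact congrArg Subtype.val h1
  -- `δ` on `V`
  obtain ⟨dV, hdV, hdVx⟩ := exists_aut_of_hom' F
    (restrict_mem ((mem_autGroup_iff F hWS).mp hδ) hVW)
    (fun x => by
      refine apply_mem_of_sup (P := Q) (Q := C) ((W.subtype.comp δ.toMonoidHom).comp
        (Subgroup.inclusion hVW)) (fun q => ?_) (fun y => Subgroup.mem_sup_right ?_) x
      · show ((δ (Subgroup.inclusion hQW q) : W) : Ω) ∈ V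
        rw [hfix _ (hQT q.2)]
        exact hQV q.2
      · exact hδC _ y.2)
  have hdVx' : ∀ (x : V), ((dV x : V) : Ω) = ((δ (Subgroup.inclusion hVW x) : W) : Ω) :=
    fun x => hdVx x
  have hdQ : ∀ x : V, (x : Ω) ∈ Q → dV x = x := fun x hx => Subtype.ext (by
    rw [hdVx', hfix _ (hQT hx)]
    rfl)
  have hdQ' : ∀ x : V, (x : Ω) ∈ Q → (dV⁻¹ : MulAut V) x = x := fun x hx => by
    conv_lhs => rw [← hdQ x hx]
    rw [MulAut.inv_apply_self]
  set m := orderOf δ with hm
  have hdm : dV ^ m = 1 := by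
    have h : ∀ (n : ℕ) (x : V), Subgroup.inclusion hVW ((dV ^ n) x) =
        (δ ^ n) (Subgroup.inclusion hVW x) := by
      intro n
      induction n with
      | zero => exact fun x => rfl
      | succ n ih =>
        intro x
        rw [pow_succ', pow_succ', MulAut.mul_apply, MulAut.mul_apply, ← ih]
        exact Subtype.ext (hdVx' _)
    refine MulEquiv.ext fun x => Subgroup.inclusion_injective hVW ?_
    rw [h, hm, pow_orderOf_eq_one]
    rfl
  have hdC : ∀ x : V, (x : Ω) ∈ C → ((dV x : V) : Ω) ∈ C := fun x hx => by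
    rw [hdVx']
    exact hδC _ hx
  have hdiC : ∀ (n : ℕ) (x : V), (x : Ω) ∈ C → (((dV ^ n) x : V) : Ω) ∈ C := by
    intro n
    induction n with
    | zero => exact fun x hx => hx
    | succ n ih =>
      intro x hx
      rw [pow_succ', MulAut.mul_apply]
      exact hdC _ (ih x hx)
  -- the extension of `α`
  obtain ⟨ψ, hψ, hψx, hψc⟩ := goodExt_of_mem hS hE ((mem_autGroup_iff E hQT).mp hα) hQ
  rw [range_subtype_comp_aut] at hψc
  have hle : V ≤ Q ⊔ centralizerIn S T := sup_le_sup_left inf_le_right Q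
  obtain ⟨β, hβ, hβx⟩ := exists_aut_of_hom' F (restrict_mem hψ hle) (fun x => by
    refine apply_mem_of_sup (P := Q) (Q := C) (ψ.comp (Subgroup.inclusion hle))
      (fun q => hQV ?_) (fun y => ?_) x
    · rw [show ψ.comp (Subgroup.inclusion hle) (Subgroup.inclusion le_sup_left q) =
        ((α q : Q) : Ω) from (congrArg ψ (Subtype.ext rfl)).trans (hψx q)]
      exact (α q).2
    · have h1 := hψc ⟨y, y.2.2⟩
      have h2 := V.mul_mem (hCV y.2) (hQV h1)
      rw [mul_inv_cancel_left] at h2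
      exact Eq.subst (motive := fun v => v ∈ V) (congrArg ψ (Subtype.ext rfl)) h2)
  have hβQ : ∀ q : Q, β (Subgroup.inclusion hQV q) = Subgroup.inclusion hQV (α q) := fun q =>
    Subtype.ext ((hβx _).trans ((congrArg ψ (Subtype.ext rfl)).trans (hψx q)))
  -- the displacement of `β`
  have hz : ∀ y : V, (y : Ω) ∈ C →
      ∃ z : Subgroup.center Q, β y = y * Subgroup.inclusion hQV (z : Q) := by
    intro y hy
    have h1 : (y : Ω)⁻¹ * ((β y : V) : Ω) ∈ Q := by
      rw [hβx]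
      exact Eq.subst (motive := fun v => v ∈ Q)
        (congrArg (fun v => (y : Ω)⁻¹ * ψ v) (Subtype.ext rfl)) (hψc ⟨y, hy.2⟩)
    refine ⟨⟨⟨_, h1⟩, Subgroup.mem_center_iff.mpr fun q => Subtype.ext ?_⟩,
      Subtype.ext (mul_inv_cancel_left _ _).symm⟩
    obtain ⟨x, hx⟩ := α.surjective q
    have h2 : (q : Ω) * ((β y : V) : Ω) = ((β y : V) : Ω) * q := by
      rw [← hx]
      show ((Subgroup.inclusion hQV (α x) * β y : V) : Ω) = (β y * Subgroup.inclusion hQV (α x) : V)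
      rw [← hβQ, ← map_mul, ← map_mul]
      exact congrArg (fun v : V => ((β v : V) : Ω)) (Subtype.ext (hy.2.2 x (hQT x.2)))
    have h3 : (q : Ω) * (y : Ω)⁻¹ = (y : Ω)⁻¹ * q := Subgroup.inv_mem _ hy.2.2 q (hQT q.2)
    show (q : Ω) * ((y : Ω)⁻¹ * ((β y : V) : Ω)) = (y : Ω)⁻¹ * ((β y : V) : Ω) * q
    rw [← mul_assoc, h3, mul_assoc, h2, mul_assoc]
  choose z hz using hz
  letI : CommGroup (Subgroup.center Q) :=
    { (inferInstance : Group (Subgroup.center Q)) with
      mul_comm := fun a b => Subtype.ext (Subgroup.mem_center_iff.mp b.2 a) }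
  let D : ℕ → (y : V) → (y : Ω) ∈ C → Subgroup.center Q :=
    fun i y hy => z ((dV ^ i) y) (hdiC i y hy)
  -- conjugates of `β`
  have hconj : ∀ i : ℕ, ∀ y : V, ∀ hy : (y : Ω) ∈ C,
      ((dV ^ i)⁻¹ * β * dV ^ i) y = y * Subgroup.inclusion hQV (D i y hy : Q) := by
    intro i y hy
    rw [MulAut.mul_apply, MulAut.mul_apply, hz _ (hdiC i y hy), map_mul, MulAut.inv_apply_self]
    congr 1
    have : ∀ n : ℕ, ∀ x : V, (x : Ω) ∈ Q → (dV ^ n) x = x := fun n x hx => by
      induction n with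
      | zero => rfl
      | succ n ih => rw [pow_succ', MulAut.mul_apply, ih, hdQ x hx]
    have hq : ((Subgroup.inclusion hQV (D i y hy : Q) : V) : Ω) ∈ Q := hincQ _
    conv_lhs => rw [← this i _ hq]
    rw [MulAut.inv_apply_self]
  -- products of the quotients
  have hprod : ∀ n : ℕ, ∃ e ∈ F.autGroup V, (∀ x : V, (x : Ω) ∈ Q → e x = x) ∧
      ∀ (y : V) (hy : (y : Ω) ∈ C), e y =
        y * Subgroup.inclusion hQV
          ((∏ i ∈ Finset.range n, (D i y hy * (z y hy)⁻¹) : Subgroup.center Q) : Q) := by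
    intro n
    induction n with
    | zero => exact ⟨1, one_mem _, fun x _ => rfl, fun y hy => by simp⟩
    | succ n ih =>
      obtain ⟨e, he, heQ, hey⟩ := ih
      set b := (dV ^ n)⁻¹ * β * dV ^ n with hb
      have hbF : b ∈ F.autGroup V :=
        mul_mem (mul_mem (inv_mem (pow_mem hdV n)) hβ) (pow_mem hdV n)
      have hpowQ : ∀ k : ℕ, ∀ x : V, (x : Ω) ∈ Q → (dV ^ k) x = x := fun k x hx => by
        induction k with
        | zero => rfl
        | succ k ih => rw [pow_succ', MulAut.mul_apply, ih, hdQ x hx]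
      have hbQ : ∀ q : Q, b (Subgroup.inclusion hQV q) = Subgroup.inclusion hQV (α q) := fun q => by
        have hq : ((Subgroup.inclusion hQV (α q) : V) : Ω) ∈ Q := (α q).2
        rw [hb, MulAut.mul_apply, MulAut.mul_apply, hpowQ n _ q.2, hβQ]
        conv_lhs => rw [← hpowQ n _ hq]
        rw [MulAut.inv_apply_self]
      have hgQ : ∀ x : V, (x : Ω) ∈ Q → (b * β⁻¹) x = x := fun x hx => by
        obtain ⟨q, hq⟩ := α.surjective ⟨x, hx⟩
        have e1 : Subgroup.inclusion hQV (α q) = x := by rw [hq]; rfl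
        rw [← e1, MulAut.mul_apply,
          show (β⁻¹ : MulAut V) (Subgroup.inclusion hQV (α q)) = Subgroup.inclusion hQV q by
            rw [← hβQ, MulAut.inv_apply_self], hbQ]
      refine ⟨(b * β⁻¹) * e, mul_mem (mul_mem hbF (inv_mem hβ)) he,
        fun x hx => by rw [MulAut.mul_apply, heQ x hx, hgQ x hx], fun y hy => ?_⟩
      have hy' : (b * β⁻¹) y =
          y * Subgroup.inclusion hQV ((D n y hy * (z y hy)⁻¹ : Subgroup.center Q) : Q) := by
        have h1 : (b * β⁻¹) (β y) = b y := by rw [MulAut.mul_apply, MulAut.inv_apply_self]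
        have h2 := hconj n y hy
        rw [hb] at h1
        rw [h2, hz y hy, map_mul, ← hb,
          hgQ (Subgroup.inclusion hQV (z y hy : Q)) (hincQ _)] at h1
        have h3 := eq_mul_inv_of_mul_eq h1
        rw [h3, mul_assoc, ← map_inv, ← map_mul, ← Subgroup.coe_inv, ← Subgroup.coe_mul]
      rw [MulAut.mul_apply, hey y hy, map_mul, hy', hgQ _ (hincQ _), mul_assoc,
        ← map_mul, ← Subgroup.coe_mul, Finset.prod_range_succ,
        mul_comm (∏ i ∈ Finset.range n, (D i y hy * (z y hy)⁻¹))]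
  obtain ⟨e, he, heQ, hey⟩ := hprod m
  obtain ⟨a, ha⟩ := IsPGroup.iff_card.mp (isPGroup_of_le hS hQS)
  obtain ⟨j, hj⟩ := exists_pow_inverse (G := Subgroup.center Q) (m := m) (k := a) hco fun g => by
    refine Subtype.ext ?_
    rw [Subgroup.coe_pow, ← ha]
    exact pow_card_eq_one'
  have hepow : ∀ (k : ℕ) (y : V) (hy : (y : Ω) ∈ C), (e ^ k) y =
      y * Subgroup.inclusion hQV
        (((∏ i ∈ Finset.range m, (D i y hy * (z y hy)⁻¹)) ^ k : Subgroup.center Q) : Q) := by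
    intro k y hy
    induction k with
    | zero => simp
    | succ k ih =>
      rw [pow_succ', MulAut.mul_apply, ih, map_mul, hey y hy, heQ _ (hincQ _), mul_assoc,
        ← map_mul, ← Subgroup.coe_mul, ← pow_succ']
  set b' := e ^ j * β with hb'
  have hb'F : b' ∈ F.autGroup V := mul_mem (pow_mem he j) hβ
  have hjQ : ∀ x : V, (x : Ω) ∈ Q → (e ^ j) x = x := fun x hx => by
    clear hj hb' hb'F
    induction j with
    | zero => rfl
    | succ j ih => rw [pow_succ', MulAut.mul_apply, ih, heQ x hx]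
  have hb'Q : ∀ q : Q, b' (Subgroup.inclusion hQV q) = Subgroup.inclusion hQV (α q) := fun q => by
    rw [hb', MulAut.mul_apply, hβQ, hjQ _ (α q).2]
  let A : (y : V) → (y : Ω) ∈ C → Subgroup.center Q := fun y hy =>
    (∏ i ∈ Finset.range m, D i y hy) ^ j
  have hb'y : ∀ (y : V) (hy : (y : Ω) ∈ C),
      b' y = y * Subgroup.inclusion hQV (A y hy : Q) := fun y hy => by
    rw [hb', MulAut.mul_apply, hz y hy, map_mul, hepow j y hy, hjQ _ (hincQ _),
      mul_assoc, ← map_mul, ← Subgroup.coe_mul]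
    congr 3
    rw [Finset.prod_mul_distrib, Finset.prod_const, Finset.card_range, mul_pow, inv_pow, inv_pow,
      ← pow_mul, hj, inv_mul_cancel_right]
  -- invariance
  set y : V := ⟨c, hCV ⟨c.2, hc⟩⟩ with hy
  have hyC : (y : Ω) ∈ C := ⟨c.2, hc⟩
  have hshift : ∀ i, D i (dV y) (hdC y hyC) = D (i + 1) y hyC := by
    intro i
    show z _ _ = z _ _
    congr 1
  have hA : A (dV y) (hdC y hyC) = A y hyC := by
    show _ ^ j = _ ^ j
    congr 1
    rw [Finset.prod_congr rfl fun i _ => hshift i]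
    have h1 := Finset.prod_range_succ' (fun i => D i y hyC) m
    rw [Finset.prod_range_succ] at h1
    have h2 : D m y hyC = D 0 y hyC := by
      show z _ _ = z _ _
      congr 1
      rw [hdm, pow_zero]
    rw [h2] at h1
    exact (mul_right_cancel h1).symm
  set u : V := y⁻¹ * dV y with hu
  have huΩ : (u : Ω) = (c : Ω)⁻¹ * ((δ c : W) : Ω) := by
    show (c : Ω)⁻¹ * ((dV y : V) : Ω) = _
    rw [hdVx']
    rfl
  have hb'u : b' u = u := by
    rw [hu, map_mul, map_inv, hb'y y hyC, hb'y _ (hdC y hyC), hA, mul_inv_rev, mul_assoc,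
      ← mul_assoc y⁻¹]
    refine Subtype.ext ?_
    set w : Ω := ((A y hyC : Q) : Ω)
    have hwT : w ∈ T := hQT (A y hyC : Q).2
    show w⁻¹ * ((y : Ω)⁻¹ * ((dV y : V) : Ω) * w) = (y : Ω)⁻¹ * ((dV y : V) : Ω)
    have huC : (y : Ω)⁻¹ * ((dV y : V) : Ω) ∈ centralizerIn S T :=
      Subgroup.mul_mem _ (Subgroup.inv_mem _ hyC.2) (hdC y hyC).2
    rw [← huC.2 w hwT, inv_mul_cancel_left]
  rw [← huΩ]
  have hleV : Q ⊔ Subgroup.zpowers (u : Ω) ≤ V := sup_le hQV (Subgroup.zpowers_le.mpr u.2)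
  refine ⟨_, restrict_mem ((mem_autGroup_iff F hVS).mp hb'F) hleV,
    fun q => congrArg Subtype.val (hb'Q q), fun x => ?_⟩
  refine eq_self_of_mem_zpowers ((V.subtype.comp b'.toMonoidHom).comp (Subgroup.inclusion hleV))
    (Subgroup.mem_sup_right (Subgroup.mem_zpowers _)) ?_ _ x.2
  exact congrArg Subtype.val hb'u

/-- The displacement of `C_S(T)` by an automorphism of order prime to `p` fixing `T` centralizes
`E`. -/
theorem displacement_mem_fixedElts (hS : IsPGroup p S) (hE : E.IsNormalIn F p) {W : Subgroup Ω}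
    (hTW : T ≤ W) (hWS : W ≤ S) {δ : MulAut W} (hδ : δ ∈ F.autGroup W)
    (hco : (orderOf δ).Coprime p) (hfix : ∀ x : W, (x : Ω) ∈ T → δ x = x) {c : W}
    (hc : (c : Ω) ∈ centralizerIn S T) :
    (c : Ω)⁻¹ * ((δ c : W) : Ω) ∈ fixedElts F E := by
  have hT := hE.1.2.2.2.1
  haveI := finite_of_le hT.1
  refine ⟨Subgroup.mul_mem _ (Subgroup.inv_mem _ hc) ⟨hWS (δ c).2, fun t ht => ?_⟩,
    fun P φ hφ => ?_⟩
  · have h1 : δ (⟨t, hTW ht⟩ * c) = δ (c * ⟨t, hTW ht⟩) :=
      congrArg δ (Subtype.ext (hc.2 t ht))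
    rw [map_mul, map_mul, hfix ⟨t, hTW ht⟩ ht] at h1
    exact congrArg Subtype.val h1
  · exact CfsgLib.FusionSub.closed_induction_centric (isPGroup_of_le hS hT.1) hE.1.1
      (closed_fixY _) (fun Q hQ hQc _ α hα => fix_displacement_aut hS hE hQc hα hTW hWS hδ hco
        hfix hc) hφ

/-- With `C_S(E) ≤ T`, a subsystem over `T C_S(T)` inducing `Aut_E(T)` on `T` has its hyperfocal
subgroup in `T`. -/
theorem hyperfocal_le_of_centralizer (hS : IsPGroup p S) (hE : E.IsNormalIn F p)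
    (hfe : fixedElts F E ⊆ T) {K : FusionSystem (T ⊔ centralizerIn S T)} (hK : K.IsSaturated p)
    (hKF : K.IsSubsystemOf F) (haut : K.autGroup T = E.autGroup T) :
    K.hyperfocalSubgroup p ≤ T := by
  have hT := hE.1.2.2.2.1
  haveI := finite_of_le hT.1
  have hRS : (T ⊔ centralizerIn S T) ≤ S := sup_le hT.1 (centralizerIn_le S T)
  haveI := finite_of_le hRS
  have hTK : K.StronglyClosed T :=
    ⟨le_sup_left, fun Q hQ φ hφ x => hT.2 Q hQ φ (hKF Q hφ) x⟩
  refine (Subgroup.closure_le _).mpr ?_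
  rintro _ ⟨P, α, x, hP, hα, rfl⟩
  haveI := finite_autGroup K hP
  let M : Subgroup (K.autGroup P) :=
    { carrier := {b | ∀ x : P, (x : Ω)⁻¹ * (((b : MulAut P) x : P) : Ω) ∈ T}
      one_mem' := fun x => by simp
      mul_mem' := fun {b c} hb hc x => by
        have := T.mul_mem (hc x) (hb ((c : MulAut P) x))
        simpa [mul_assoc] using this
      inv_mem' := fun {b} hb x => by
        simpa using T.inv_mem (hb ((b : MulAut P)⁻¹ x)) }
  suffices h : pResidual p (K.autGroup P) ≤ M by exact h hα x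
  refine (Subgroup.closure_le _).mpr fun b hb => ?_
  intro x
  have hbc : (orderOf (b : MulAut P)).Coprime p := by rwa [Subgroup.orderOf_coe]
  set W := P ⊔ T with hW
  have hTW : T ≤ W := le_sup_right
  have hWR : W ≤ (T ⊔ centralizerIn S T) := sup_le hP le_sup_left
  have hWS : W ≤ S := hWR.trans hRS
  haveI := finite_of_le hWS
  have hmodT : ∀ {s t : Ω}, s ∈ S → s⁻¹ * t ∈ T → t * s⁻¹ ∈ T := fun {s t} hs h => by
    have := stronglyClosed_conj hT hs h
    rwa [mul_inv_cancel_left] at this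
  -- the lift
  obtain ⟨ψ, hψ, hlift⟩ := exists_lift_mod (isPGroup_of_le hS hRS) hK hTK
    ((mem_autGroup_iff K hP).mp b.2)
  obtain ⟨ψW, hψW, hψWx⟩ := exists_aut_of_hom' K hψ (fun y => by
    refine apply_mem_of_sup (P := P) (Q := T) ψ (fun q => ?_)
      (fun t => Subgroup.mem_sup_right (stronglyClosed_apply hTK hψ _ t.2)) y
    have := W.mul_mem (Subgroup.mem_sup_right (S := P) (hlift q))
      (Subgroup.mem_sup_left (T := T) ((b : MulAut P) q).2)
    rwa [show ψ (Subgroup.inclusion le_sup_left q) *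
      ((P.subtype.comp (b : MulAut P).toMonoidHom) q)⁻¹ * ((((b : MulAut P) q : P)) : Ω) =
      ψ (Subgroup.inclusion le_sup_left q) from inv_mul_cancel_right _ _] at this)
  obtain ⟨g, hg, hgx⟩ := exists_aut_of_hom' K (restrict_mem hψ hTW)
    fun t => stronglyClosed_apply hTK hψ _ t.2
  rw [haut] at hg
  obtain ⟨β, hβ, hβT, hβC⟩ := hE.2 g hg
  have hβmem : ∀ y : ↥(T ⊔ centralizerIn S T), (y : Ω)⁻¹ * ((β y : ↥(T ⊔ centralizerIn S T)) : Ω) ∈ T := by
    intro y
    have hy := y.2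
    have hy' : (y : Ω) ∈ ((T ⊔ centralizerIn S T : Subgroup Ω) : Set Ω) := hy
    rw [Subgroup.coe_mul_of_right_le_normalizer_left T (centralizerIn S T)
      ((centralizerIn_le S T).trans (stronglyClosed_le_normalizer hT))] at hy'
    obtain ⟨t, ht, d, hd, htd⟩ := Set.mem_mul.mp hy'
    set t' : ↥(T ⊔ centralizerIn S T) := ⟨t, Subgroup.mem_sup_left ht⟩
    set d' : ↥(T ⊔ centralizerIn S T) := ⟨d, Subgroup.mem_sup_right hd⟩
    have e : y = t' * d' := Subtype.ext htd.symm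
    rw [e, map_mul, Subgroup.coe_mul, Subgroup.coe_mul, mul_inv_rev]
    have h1 : t⁻¹ * ((β t' : ↥(T ⊔ centralizerIn S T)) : Ω) ∈ T := by
      rw [show ((β t' : ↥(T ⊔ centralizerIn S T)) : Ω) = ((g ⟨t, ht⟩ : T) : Ω) from hβT ⟨t, ht⟩]
      exact T.mul_mem (T.inv_mem ht) (g _).2
    have h2 := T.mul_mem (stronglyClosed_conj hT (S.inv_mem hd.1) h1) (hβC d' hd).1
    show d⁻¹ * t⁻¹ * (((β t' : ↥(T ⊔ centralizerIn S T)) : Ω) * ((β d' : ↥(T ⊔ centralizerIn S T)) : Ω)) ∈ T
    rw [show d⁻¹ * t⁻¹ * (((β t' : ↥(T ⊔ centralizerIn S T)) : Ω) * ((β d' : ↥(T ⊔ centralizerIn S T)) : Ω)) =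
      d⁻¹ * (t⁻¹ * ((β t' : ↥(T ⊔ centralizerIn S T)) : Ω)) * d⁻¹⁻¹ * ((d' : Ω)⁻¹ * ((β d' : ↥(T ⊔ centralizerIn S T)) : Ω)) by
        show _ = _ * (d⁻¹ * _); group]
    exact h2
  obtain ⟨βW, hβW, hβWx⟩ := exists_aut_of_hom' F
    (restrict_mem ((mem_autGroup_iff F hRS).mp hβ) hWR) (fun y => by
      have := W.mul_mem y.2 (hTW (hβmem (Subgroup.inclusion hWR y)))
      rwa [show (y : Ω) * ((Subgroup.inclusion hWR y : Ω)⁻¹ *
        ((β (Subgroup.inclusion hWR y) : ↥(T ⊔ centralizerIn S T)) : Ω)) = _ from mul_inv_cancel_left _ _] at this)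
  set δ₀ := βW⁻¹ * ψW with hδ₀
  have hδ₀F : δ₀ ∈ F.autGroup W :=
    mul_mem (inv_mem hβW) (CfsgLib.FusionSub.autGroup_mono hKF W hψW)
  have hδ₀T : ∀ y : W, (y : Ω) ∈ T → δ₀ y = y := by
    intro y hy
    rw [hδ₀, MulAut.mul_apply]
    apply βW.injective
    rw [MulAut.apply_inv_self]
    refine Subtype.ext ?_
    rw [hψWx, hβWx]
    show ψ y = ((β (Subgroup.inclusion hWR y) : ↥(T ⊔ centralizerIn S T)) : Ω)
    exact ((hgx ⟨y, hy⟩).symm.trans (hβT ⟨y, hy⟩).symm).trans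
      (congrArg (fun v : ↥(T ⊔ centralizerIn S T) => ((β v : ↥(T ⊔ centralizerIn S T)) : Ω)) (Subtype.ext rfl))
  have hδ₀P : ∀ q : P, ((δ₀ (Subgroup.inclusion le_sup_left q) : W) : Ω) *
      ((((b : MulAut P) q : P)) : Ω)⁻¹ ∈ T := by
    intro q
    set v := δ₀ (Subgroup.inclusion le_sup_left q) with hv
    have h1 : ((β (Subgroup.inclusion hWR v) : ↥(T ⊔ centralizerIn S T)) : Ω) =
        ψ (Subgroup.inclusion le_sup_left q) := by
      refine (hβWx v).symm.trans ?_
      rw [hv, hδ₀, MulAut.mul_apply, MulAut.apply_inv_self, hψWx]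
    have h2 := hmodT (hWS v.2) (hβmem (Subgroup.inclusion hWR v))
    have h3 := T.mul_mem (T.inv_mem h2) (hlift q)
    rw [h1] at h3
    rwa [show (ψ (Subgroup.inclusion le_sup_left q) * (v : Ω)⁻¹)⁻¹ *
      (ψ (Subgroup.inclusion le_sup_left q) * ((P.subtype.comp (b : MulAut P).toMonoidHom) q)⁻¹) =
      (v : Ω) * ((((b : MulAut P) q : P)) : Ω)⁻¹ from by
        show (_ * (v : Ω)⁻¹)⁻¹ * (_ * ((((b : MulAut P) q : P)) : Ω)⁻¹) = _
        group] at h3
  have hpowP : ∀ (n : ℕ) (q : P), (((δ₀ ^ n) (Subgroup.inclusion le_sup_left q) : W) : Ω) *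
      (((((b : MulAut P) ^ n) q : P)) : Ω)⁻¹ ∈ T := by
    intro n
    induction n with
    | zero => intro q; simp
    | succ n ih =>
      intro q
      set q' := ((b : MulAut P) ^ n) q
      set i : P →* W := Subgroup.inclusion le_sup_left
      have hd : ((((δ₀ ^ n) (i q) * (i q')⁻¹ : W)) : Ω) ∈ T := ih q
      have h1 : δ₀ ((δ₀ ^ n) (i q) * (i q')⁻¹) = (δ₀ ^ n) (i q) * (i q')⁻¹ := hδ₀T _ hd
      rw [pow_succ', pow_succ', MulAut.mul_apply, MulAut.mul_apply]
      have h2 := T.mul_mem hd (hδ₀P q')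
      rw [← h1, map_mul, map_inv] at h2
      show ((δ₀ ((δ₀ ^ n) (i q)) : W) : Ω) * ((((b : MulAut P) q' : P)) : Ω)⁻¹ ∈ T
      simpa [mul_assoc] using h2
  haveI := finite_autGroup F hWS
  have ho : orderOf δ₀ ≠ 0 := by
    rw [← Subgroup.orderOf_mk (H := F.autGroup W) δ₀ hδ₀F]
    exact (orderOf_pos _).ne'
  obtain ⟨j, hj, hjp⟩ := exists_exponent (p := p) hbc ((orderOf δ₀).factorization p)
  set δ := δ₀ ^ j with hδ
  have hδF : δ ∈ F.autGroup W := pow_mem hδ₀F j
  have hδco : (orderOf δ).Coprime p := by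
    refine Nat.Coprime.coprime_dvd_left (orderOf_dvd_of_pow_eq_one (n := ordCompl[p] (orderOf δ₀)) ?_)
      (Nat.coprime_ordCompl (Fact.out : p.Prime) ho).symm
    rw [hδ, ← pow_mul]
    refine orderOf_dvd_iff_pow_eq_one.mp ?_
    exact (Nat.ordProj_mul_ordCompl_eq_self (orderOf δ₀) p).symm.dvd.trans
      (Nat.mul_dvd_mul hjp dvd_rfl)
  have hδT : ∀ y : W, (y : Ω) ∈ T → δ y = y := fun y hy => by
    rw [hδ]
    clear hjp hj hδco hδF hδ
    induction j with
    | zero => rfl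
    | succ j ih => rw [pow_succ', MulAut.mul_apply, ih, hδ₀T y hy]
  have hxb : ((δ (Subgroup.inclusion le_sup_left x) : W) : Ω) *
      ((((b : MulAut P) x : P)) : Ω)⁻¹ ∈ T := by
    have := hpowP j x
    rwa [hj (pow_orderOf_eq_one _)] at this
  -- split `x`
  have hx' : (x : Ω) ∈ ((T ⊔ centralizerIn S T : Subgroup Ω) : Set Ω) := hP x.2
  rw [Subgroup.coe_mul_of_right_le_normalizer_left T (centralizerIn S T)
    ((centralizerIn_le S T).trans (stronglyClosed_le_normalizer hT))] at hx'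
  obtain ⟨t, ht, d, hd, htd⟩ := Set.mem_mul.mp hx'
  have hdW : d ∈ W := by
    have := W.mul_mem (W.inv_mem (hTW ht)) (Subgroup.mem_sup_left (T := T) x.2)
    rwa [← htd, inv_mul_cancel_left] at this
  have hu : d⁻¹ * ((δ ⟨d, hdW⟩ : W) : Ω) ∈ T :=
    hfe (displacement_mem_fixedElts hS hE hTW hWS hδF hδco hδT (c := ⟨d, hdW⟩) hd)
  have e : ((δ (Subgroup.inclusion le_sup_left x) : W) : Ω) = t * ((δ ⟨d, hdW⟩ : W) : Ω) := by
    rw [show (Subgroup.inclusion le_sup_left x : W) = ⟨t, hTW ht⟩ * ⟨d, hdW⟩ from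
      Subtype.ext htd.symm, map_mul, hδT ⟨t, hTW ht⟩ ht]
    rfl
  have hxS : (x : Ω) ∈ S := hRS (hP x.2)
  have h1 := stronglyClosed_conj hT (S.inv_mem hxS) (T.inv_mem hxb)
  have h2 : (x : Ω)⁻¹ * ((δ (Subgroup.inclusion le_sup_left x) : W) : Ω) ∈ T := by
    rw [e, ← htd, mul_inv_rev, mul_assoc, inv_mul_cancel_left]
    exact hu
  have h3 := T.mul_mem h1 h2
  rw [mul_inv_rev, inv_inv] at h3
  convert h3 using 1
  group

end CfsgLib.FusionBasics.Reduction
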