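import Cfsg.Agent.Lib.FusionBasics.Reduction.Extend
import Cfsg.Agent.Lib.FusionBasics.Reduction.Centralized
import Cfsg.Agent.Lib.Alperin.InvariantCore
import Cfsg.Agent.S5120

/-!
The subsystem of `p`-power index of `C_F(T)` over `C_S(E)` is normal in `F`.
-/

set_option autoImplicit false
set_option linter.style.haveILetI false
set_option linter.unusedSectionVars false
set_option maxHeartbeats 1000000

namespace CfsgLib.FusionBasics.Reduction

open Cfsg Cfsg.FusionSystem CfsgLib.Alperin CfsgLib.FusionSub CfsgLib.FusionBasics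
open CfsgLib.Alperin.NormalLift CfsgLib.FusionBasics.Central CfsgLib.FusionBasics.Meet

universe u

variable {Ω : Type u} [Group Ω] {S T Y : Subgroup Ω} [Finite S] {p : ℕ} [Fact p.Prime]
  {F : FusionSystem S} {N : FusionSystem (centralizerIn S T)}

theorem centralizer_aut_iff (hT : T ≤ S) (hN : F.IsCentralizerSystem T N) {P : Subgroup Ω}
    (hP : P ≤ centralizerIn S T) {γ : MulAut P} :
    γ ∈ N.autGroup P ↔ ∃ γT ∈ F.autGroup (P ⊔ T), Agree γT γ ∧
      ∀ x : ↥(P ⊔ T), (x : Ω) ∈ T → γT x = x := by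
  have hPS := hP.trans (centralizerIn_le S T)
  haveI := finite_of_le (centralizerIn_le S T)
  have hPT : P ⊔ T ≤ S := sup_le hPS hT
  haveI := finite_of_le hPT
  rw [mem_autGroup_iff N hP, hN P]
  constructor
  · rintro ⟨-, -, -, ψ, hψ, hψx, hψt⟩
    obtain ⟨γT, hγT, hγTx⟩ := exists_aut_of_hom' F hψ (apply_mem_of_sup ψ
      (fun x => Subgroup.mem_sup_left ((hψx x).symm ▸ (γ x).2))
      (fun t => Subgroup.mem_sup_right ((hψt t).symm ▸ t.2)))
    refine ⟨γT, hγT, fun x hx hxP => ?_, fun x hx => Subtype.ext ?_⟩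
    · exact ((hγTx ⟨x, hx⟩).trans (congrArg ψ (Subtype.ext rfl))).trans (hψx ⟨x, hxP⟩)
    · exact ((hγTx x).trans (congrArg ψ (Subtype.ext rfl))).trans (hψt ⟨x, hx⟩)
  · rintro ⟨γT, hγT, hag, hfix⟩
    have h := (mem_autGroup_iff F hPT).mp hγT
    refine ⟨restrict_mem_apply h le_sup_left fun x => ?_, hP, fun x => hP (γ x).2, _, h,
      fun x => hag x _ x.2, fun t => congrArg Subtype.val (hfix _ t.2)⟩
    exact (hag x (Subgroup.mem_sup_left x.2) x.2).symm

/-- Maps between subgroups of `C_S(E)` carry `Aut` in `C_F(T)` to itself. -/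
theorem centralizer_congr (hT : F.StronglyClosed T) (hN : F.IsCentralizerSystem T N)
    (hY : Y ≤ centralizerIn S T) (hYc : F.StronglyClosed Y)
    (hext : ∀ (P : Subgroup Ω), P ≤ Y → ∀ (φ : P →* Ω), φ ∈ F.Hom P → ExtendsTo F T P φ)
    {P P' : Subgroup Ω} (hP : P ≤ Y) {e : P ≃* P'} (he : InHom F e) {γ : MulAut P}
    (hγ : γ ∈ N.autGroup P) : MulAut.congr e γ ∈ N.autGroup P' := by
  haveI := finite_of_le hT.1
  have hP' : P' ≤ Y := fun y hy => by
    obtain ⟨x, hx⟩ := e.surjective ⟨y, hy⟩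
    have := hYc.2 P hP _ he x
    rw [show (P'.subtype.comp e.toMonoidHom) x = y from congrArg Subtype.val hx] at this
    exact this
  obtain ⟨ψ, hψ, hψx⟩ := hext P hP _ he
  have hr : ψ.range = P' ⊔ T := by
    refine le_antisymm ?_ ?_
    · rintro _ ⟨z, rfl⟩
      exact apply_mem_of_sup ψ (fun x => Subgroup.mem_sup_left ((hψx x).symm ▸ (e x).2))
        (fun t => Subgroup.mem_sup_right (CfsgLib.FusionSub.stronglyClosed_apply hT hψ _ t.2)) z
    · refine sup_le (fun y hy => ?_) fun t ht => mem_range_of_stronglyClosed hT le_sup_right hψ ht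
      obtain ⟨x, hx⟩ := e.surjective ⟨y, hy⟩
      exact ⟨_, (hψx x).trans (congrArg Subtype.val hx)⟩
  set eT := isoOfHom ψ (F.injective_of_mem hψ) hr with heT
  have heTF : InHom F eT := mem_of_apply_eq hψ fun _ => rfl
  have hag : Agree eT e := fun x hx hxP =>
    (congrArg ψ (Subtype.ext rfl)).trans (hψx ⟨x, hxP⟩)
  obtain ⟨γT, hγT, hγag, hfix⟩ := (centralizer_aut_iff hT.1 hN (hP.trans hY)).mp hγ
  refine (centralizer_aut_iff hT.1 hN (hP'.trans hY)).mpr
    ⟨MulAut.congr eT γT, congr_mem heTF hγT, hγag.congr hag le_sup_left, fun x hx => ?_⟩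
  have h1 : ((eT.symm x : ↥(P ⊔ T)) : Ω) ∈ T := (heTF.symm.mem_iff hT x).mp hx
  rw [MulAut.congr_apply]
  simp only [MulEquiv.trans_apply]
  rw [hfix _ h1, MulEquiv.apply_symm_apply]

variable {E : FusionSystem T}

/-- The hyperfocal subgroup of `C_F(T)` lies in `C_S(E)`. -/
theorem centralizer_hyperfocal_le (hS : IsPGroup p S) (hE : E.IsNormalIn F p)
    (hN : F.IsCentralizerSystem T N) :
    N.hyperfocalSubgroup p ≤ Subgroup.closure (fixedElts F E) := by
  have hT := hE.1.2.2.2.1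
  refine (Subgroup.closure_le _).mpr ?_
  rintro _ ⟨P, α, x, hP, hα, rfl⟩
  haveI := finite_of_le (centralizerIn_le S T)
  haveI := finite_of_le hT.1
  haveI := finite_autGroup N hP
  set Z := Subgroup.closure (fixedElts F E)
  let M : Subgroup (N.autGroup P) :=
    { carrier := {b | ∀ x : P, (x : Ω)⁻¹ * (((b : MulAut P) x : P) : Ω) ∈ Z}
      one_mem' := fun x => by simp
      mul_mem' := fun {b c} hb hc x => by
        have := Z.mul_mem (hc x) (hb ((c : MulAut P) x))
        simpa [mul_assoc] using this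
      inv_mem' := fun {b} hb x => by
        simpa using Z.inv_mem (hb ((b : MulAut P)⁻¹ x)) }
  suffices h : pResidual p (N.autGroup P) ≤ M by exact h hα x
  refine (Subgroup.closure_le _).mpr fun b hb => ?_
  intro x
  have hbc : (orderOf (b : MulAut P)).Coprime p := by rwa [Subgroup.orderOf_coe]
  have hWS : P ⊔ T ≤ S := sup_le (hP.trans (centralizerIn_le S T)) hT.1
  obtain ⟨bT, hbT, hag, hfix⟩ := (centralizer_aut_iff hT.1 hN hP).mp b.2
  haveI := finite_autGroup F hWS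
  have ho : orderOf bT ≠ 0 := by
    rw [← Subgroup.orderOf_mk (H := F.autGroup (P ⊔ T)) bT hbT]
    exact (orderOf_pos _).ne'
  obtain ⟨j, hj, hjp⟩ := exists_exponent (p := p) hbc ((orderOf bT).factorization p)
  have hco : (orderOf (bT ^ j)).Coprime p := by
    refine Nat.Coprime.coprime_dvd_left
      (orderOf_dvd_of_pow_eq_one (n := ordCompl[p] (orderOf bT)) ?_)
      (Nat.coprime_ordCompl (Fact.out : p.Prime) ho).symm
    rw [← pow_mul]
    refine orderOf_dvd_iff_pow_eq_one.mp ?_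
    exact (Nat.ordProj_mul_ordCompl_eq_self (orderOf bT) p).symm.dvd.trans
      (Nat.mul_dvd_mul hjp dvd_rfl)
  have hfixj : ∀ y : ↥(P ⊔ T), (y : Ω) ∈ T → (bT ^ j) y = y := fun y hy => by
    clear hjp hj hco
    induction j with
    | zero => rfl
    | succ j ih => rw [pow_succ', MulAut.mul_apply, ih, hfix y hy]
  refine Subgroup.subset_closure ?_
  have h := displacement_mem_fixedElts hS hE le_sup_right hWS (pow_mem hbT j) hco hfixj
    (c := Subgroup.inclusion le_sup_left x) (hP x.2)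
  rw [show (((bT ^ j) (Subgroup.inclusion le_sup_left x) : ↥(P ⊔ T)) : Ω) =
      ((((b : MulAut P) ^ j) x : P) : Ω) from hag.pow j x _ x.2,
    hj (pow_orderOf_eq_one _)] at h
  exact h

/-- `C_F(E)`: a normal subsystem over `C_S(E)` centralizing `T`, normal in `C_F(T)`. -/
theorem exists_centralizer_normal_in (hS : IsPGroup p S) (hE : E.IsNormalIn F p)
    (hY : Y ≤ centralizerIn S T) (hYe : Y = Subgroup.closure (fixedElts F E)) :
    ∃ D : FusionSystem Y, D.IsNormalIn F p ∧ (∀ P, D.Hom P ⊆ F.centralizerHom T P) ∧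
      ∀ N : FusionSystem (centralizerIn S T), F.IsCentralizerSystem T N → D.IsNormalIn N p := by
  have hF := hE.1.2.1
  have hT := hE.1.2.2.2.1
  haveI := finite_of_le hT.1
  have hfix : ∀ (P : Subgroup Ω) (φ : P →* Ω), φ ∈ E.Hom P → FixY F Y P φ := fun P φ hφ =>
    hYe ▸ fixY_closure_fixedElts hS hE hφ
  have hmax : ∀ y ∈ Y, y ∈ fixedElts F E := fun y hy => ⟨hY hy, fun P φ hφ => by
    obtain ⟨ψ, hψ, hx, hz⟩ := hfix P φ hφ
    exact ⟨_, restrict_mem hψ (sup_le_sup_left (Subgroup.zpowers_le.mpr hy) P),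
      fun x => hx x, fun z => hz ⟨z, Subgroup.zpowers_le.mpr hy z.2⟩⟩⟩
  have hYS : Y ≤ S := hY.trans (centralizerIn_le S T)
  haveI := finite_of_le hYS
  have hYp := isPGroup_of_le hS hYS
  have hYc : F.StronglyClosed Y := ⟨hYS, fun R hR φ hφ x => by
    rw [hYe]
    exact Subgroup.subset_closure ((fixedElts_iff hS hE hφ x).mp (hmax x (hR x.2)))⟩
  have hext : ∀ (P : Subgroup Ω), P ≤ Y → ∀ (φ : P →* Ω), φ ∈ F.Hom P → ExtendsTo F T P φ :=
    fun P hP φ hφ => extendsTo_of_hom hS hE hY hYc hfix hP hφ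
  obtain ⟨N, hN⟩ := exists_centralizerSystem F hT.1
  have hTn : F.IsFullyNormalized T := by
    refine ⟨hT.1, fun Q ⟨φ, hφ, hr⟩ => ?_⟩
    have hQT : Q ≤ T := by
      rw [← hr]
      rintro _ ⟨x, rfl⟩
      exact hT.2 T le_rfl φ hφ x
    rw [Subgroup.eq_of_le_of_card_ge hQT (by rw [← hr, card_range_eq (F.injective_of_mem hφ)])]
  have hNs := Cfsg.Agent.S5099.result p hS F hF T
    (centralized_automized_of_fullyNormalized hS hF hTn).1 N hN
  have hCS : centralizerIn S T ≤ S := centralizerIn_le S T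
  haveI := finite_of_le hCS
  have hCp := isPGroup_of_le hS hCS
  have hNF : N.IsSubsystemOf F := fun P φ hφ => by
    rw [hN P] at hφ
    exact hφ.1
  have hhyp : N.hyperfocalSubgroup p ≤ Y := hYe ▸ centralizer_hyperfocal_le hS hE hN
  obtain ⟨D, hDs, hDi⟩ := CfsgLib.FusionBasics.PPower.exists_pPowerIndex hCp hNs hY hhyp
  have hYn : (Y.subgroupOf (centralizerIn S T)).Normal :=
    ⟨fun n hn s => stronglyClosed_conj hYc (hCS s.2) hn⟩
  have hDNn := Cfsg.Agent.S5120.result p hCp N hNs Y hY hYn hhyp D hDs hDi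
  have hDN := hDNn.1.2.2
  have hDN' : ∀ N' : FusionSystem (centralizerIn S T), F.IsCentralizerSystem T N' →
      D.IsNormalIn N' p := fun N' hN' => by
    rwa [CfsgLib.FusionSub.system_ext fun P => (hN' P).trans (hN P).symm]
  have hDF : D.IsSubsystemOf F := fun P φ hφ => hNF P (hDi.1 P hφ)
  have hinv : InvCond D F := by
    have hcore : ∀ P : Subgroup Ω, D.Hom P ⊆ (invariantCore D F).Hom P := by
      refine le_of_pPrime_le hYp hDs hDi.1 hY _ fun P hP γ hγ hc => ?_
      refine (mem_autGroup_iff _ hP).mpr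
        ⟨(mem_autGroup_iff D hP).mp (pPrime_mem_of_hasPPowerIndexIn hDi hP hγ hc),
          fun a ha => ?_⟩
      let η : P →* Ω := Y.subtype.comp (a.toMonoidHom.comp (Subgroup.inclusion hP))
      have hη : η ∈ F.Hom P :=
        restrict_mem_apply ((mem_autGroup_iff F hYS).mp ha) hP fun x => rfl
      have hr : η.range = autImage a P := by
        ext y
        constructor
        · rintro ⟨x, rfl⟩
          exact mem_autImage _ x.2
        · rintro ⟨x, hx, rfl⟩
          exact ⟨⟨x, hx⟩, rfl⟩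
      set e := isoOfHom η (F.injective_of_mem hη) hr
      have he : InHom F e := mem_of_apply_eq hη fun _ => rfl
      have hmem := pPrime_mem_of_hasPPowerIndexIn hDi (autImage_le a P)
        (centralizer_congr hT hN hY hYc hext hP he hγ) (by rwa [(MulAut.congr e).orderOf_eq])
      refine ⟨_, (mem_autGroup_iff D (autImage_le a P)).mp hmem, fun x hxT hφx => ?_⟩
      show (((MulAut.congr e γ) (e x) : ↥(autImage a P)) : Ω) = _
      rw [MulAut.congr_apply]
      simp only [MulEquiv.trans_apply, MulEquiv.symm_apply_apply]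
      rfl
    intro P hPT φ hφ α hα
    obtain ⟨χ, hχ, hχx⟩ := (hcore P hφ).2 α hα
    exact ⟨χ, hχ, fun x hφx _ => hχx x (hPT x.2) hφx⟩
  have hdec : ∀ (P : Subgroup Ω), P ≤ Y → ∀ φ : P →* Ω, φ ∈ F.Hom P → Decomp D F P φ := by
    refine frattini_of_aut hS hF hinv hYc fun Q hQY hQn big α hα => ?_
    rcases hQY.eq_or_lt with rfl | hlt
    · exact ⟨α, hα, Q.subtype, incl_mem D le_rfl, fun x _ => rfl⟩
    have hQS := hQY.trans hYS
    have hQC := hQY.trans hY
    obtain ⟨κ, hκ, χ, hχ, rfl, R, hQR, ψ, hRN, hψ, hψx, hRge⟩ :=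
      CfsgLib.FusionSub.frattini_extend hS hF hQn (N.autGroup Q) (fun β hβ k hk => by
        have := centralizer_congr hT hN hY hYc hext hQY ((inHom_aut hQS).mpr hβ) hk
        exact this) hα
    have hNY : normalizerIn Y Q ≤ R ⊓ Y := fun g hg =>
      ⟨hRge g (hYS hg.1) hg.2 (autInducedBy_le_autGroup N hQC (conjAut_mem (hY hg.1) hg.2)), hg.1⟩
    have hQRY : Q ≤ R ⊓ Y := le_inf hQR hQY
    have hcard : Nat.card Q < Nat.card ↥(R ⊓ Y) :=
      CfsgLib.FusionSub.card_lt_card (inf_le_right.trans hYS)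
        (lt_of_lt_of_le (CfsgLib.FusionSub.lt_normalizerIn hYp hlt) hNY)
    have Gχ : Q.subtype.comp χ.toMonoidHom ∈ (frattiniSystem D F hinv).Hom Q :=
      restrict_mem_apply (big _ inf_le_right hcard _ (restrict_mem hψ inf_le_left)) hQRY
        fun x => (hψx x).symm
    have Gκ : Q.subtype.comp κ.toMonoidHom ∈ (frattiniSystem D F hinv).Hom Q := by
      obtain ⟨β, hβ, κ₀, hκ₀, hx⟩ := hDN.2.2.2 Q hQY _ ((mem_autGroup_iff N hQC).mp hκ.1)
      exact ⟨β, autGroup_mono hNF Y hβ, κ₀, hκ₀, hx⟩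
    exact comp_mem_apply Gχ Gκ (fun x => (χ x).2) fun x => rfl
  have hDw : D.IsWeaklyNormalIn F p := ⟨hDs, hF, hDF, hYc, hinv, hdec⟩
  refine ⟨D, ⟨hDw, fun α hα => ?_⟩, fun P φ hφ => (hN P) ▸ hDi.1 P hφ, hDN'⟩
  -- the extension condition
  set U := Y ⊔ centralizerIn S Y with hU
  have hYU : Y ≤ U := le_sup_left
  have hUS : U ≤ S := sup_le hYS (centralizerIn_le S Y)
  haveI := finite_of_le hUS
  have hTCY : T ≤ centralizerIn S Y := fun t ht => ⟨hT.1 ht, fun y hy => ((hY hy).2 t ht).symm⟩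
  have hTU : T ≤ U := hTCY.trans le_sup_right
  set A : Subgroup Ω := Y ⊓ Subgroup.centralizer (Y : Set Ω) with hA
  let Gd : MulAut Y → MulAut U → Prop := fun a b =>
    (∀ x : Y, ((b (Subgroup.inclusion hYU x) : U) : Ω) = ((a x : Y) : Ω)) ∧
      ∀ c : U, (c : Ω) ∈ centralizerIn S Y → (c : Ω)⁻¹ * ((b c : U) : Ω) ∈ A
  have hC : ∀ (a : MulAut Y) (b : MulAut U), Gd a b → ∀ c : U,
      (c : Ω) ∈ centralizerIn S Y → ((b c : U) : Ω) ∈ centralizerIn S Y := by
    intro a b hab c hc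
    have h1 := hab.2 c hc
    have := Subgroup.mul_mem (centralizerIn S Y) hc ⟨hYS h1.1, h1.2⟩
    rwa [mul_inv_cancel_left] at this
  let M₀ : Subgroup (MulAut Y) :=
    { carrier := {a | ∃ b ∈ F.autGroup U, Gd a b}
      one_mem' := ⟨1, Subgroup.one_mem _, fun x => rfl, fun c _ => by simp⟩
      mul_mem' := by
        rintro a₁ a₂ ⟨b₁, hb₁, hg₁⟩ ⟨b₂, hb₂, hg₂⟩
        refine ⟨b₁ * b₂, Subgroup.mul_mem _ hb₁ hb₂, fun x => ?_, fun c hc => ?_⟩
        · show ((b₁ (b₂ (Subgroup.inclusion hYU x)) : U) : Ω) = _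
          rw [show b₂ (Subgroup.inclusion hYU x) = Subgroup.inclusion hYU (a₂ x) from
            Subtype.ext (hg₂.1 x)]
          exact hg₁.1 (a₂ x)
        · have h2 := hg₂.2 c hc
          have h1 := hg₁.2 (b₂ c) (hC _ _ hg₂ c hc)
          have := Subgroup.mul_mem _ h2 h1
          show (c : Ω)⁻¹ * ((b₁ (b₂ c) : U) : Ω) ∈ _
          simpa [mul_assoc] using this
      inv_mem' := by
        rintro a ⟨b, hb, hg⟩
        refine ⟨b⁻¹, Subgroup.inv_mem _ hb, fun x => ?_, fun c hc => ?_⟩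
        · have : b⁻¹ (Subgroup.inclusion hYU x) = Subgroup.inclusion hYU (a⁻¹ x) := by
            apply b.injective
            rw [MulAut.apply_inv_self]
            exact Subtype.ext (by rw [hg.1 (a⁻¹ x), MulAut.apply_inv_self]; rfl)
          rw [this]
          rfl
        · have hc' : ((b⁻¹ c : U) : Ω) ∈ centralizerIn S Y := by
            refine ⟨hUS (b⁻¹ c).2, fun t ht => ?_⟩
            have h1 : b (Subgroup.inclusion hYU ⟨t, ht⟩) * c =
                c * b (Subgroup.inclusion hYU ⟨t, ht⟩) :=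
              Subtype.ext (hc.2 _ (by rw [hg.1]; exact (a _).2))
            have h2 := congrArg (fun w : U => ((b⁻¹ w : U) : Ω)) h1
            simp only [map_mul, MulAut.inv_apply_self] at h2
            exact h2
          have h3 := hg.2 _ hc'
          rw [MulAut.apply_inv_self] at h3
          simpa using Subgroup.inv_mem _ h3 }
  suffices hM₀ : D.autGroup Y ≤ M₀ from hM₀ hα
  refine autGroup_le_of_pPrime hYp hDs (isFullyNormalized_top D) (fun a ha => ?_) fun γ hγ hc => ?_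
  · obtain ⟨t, ht, htx⟩ := mem_autInducedBy_iff.mp ha
    refine ⟨conjAut U t (Subgroup.le_normalizer (hYU ht)),
      autInducedBy_le_autGroup F hUS (conjAut_mem (hYS ht) _),
      fun x => (htx x).symm, fun c hc' => ?_⟩
    have : t * (c : Ω) * t⁻¹ = c := by rw [hc'.2 t ht, mul_inv_cancel_right]
    simp [this]
  -- an automorphism of order prime to `p`
  set W := Y ⊔ T with hW
  obtain ⟨γT, hγT, hag, hfixT⟩ : ∃ γT ∈ F.autGroup W, Agree γT γ ∧
      ∀ x : W, (x : Ω) ∈ T → γT x = x :=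
    (centralizer_aut_iff hT.1 hN hY).mp (autGroup_mono hDi.1 Y hγ)
  have hWS : W ≤ S := sup_le hYS hT.1
  haveI := finite_of_le hWS
  have hγTF := (mem_autGroup_iff F hWS).mp hγT
  have hrW : (W.subtype.comp γT.toMonoidHom).range = W := range_subtype_comp_aut γT
  have hWn : F.IsFullyNormalized W := by
    refine ⟨hWS, fun Q ⟨φ, hφ, hr⟩ => ?_⟩
    have hQW : Q ≤ W := by
      rw [← hr]
      rintro _ ⟨z, rfl⟩
      exact apply_mem_of_sup φ
        (fun y => Subgroup.mem_sup_left (CfsgLib.FusionSub.stronglyClosed_apply hYc hφ _ y.2))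
        (fun t => Subgroup.mem_sup_right (CfsgLib.FusionSub.stronglyClosed_apply hT hφ _ t.2)) z
    rw [Subgroup.eq_of_le_of_card_ge hQW (by rw [← hr, card_range_eq (F.injective_of_mem hφ)])]
  set φW := W.subtype.comp γT.toMonoidHom with hφW
  obtain ⟨ψ, hψ, hψx⟩ :=
    (receptive_of_fullyNormalized hS hF hWn).2 W _ hγTF hrW
  have hWnorm : S ≤ Subgroup.normalizer (W : Set Ω) := fun s hs =>
    Subgroup.mem_normalizer_iff.mpr fun w => ⟨fun hw => by
      have hm : W ≤ (W.comap (MulAut.conj s).toMonoidHom) := sup_le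
        (fun y hy => Subgroup.mem_sup_left (stronglyClosed_conj hYc hs hy))
        (fun t ht => Subgroup.mem_sup_right (stronglyClosed_conj hT hs ht))
      exact hm hw, fun hw => by
      have hm : W ≤ (W.comap (MulAut.conj s⁻¹).toMonoidHom) := sup_le
        (fun y hy => Subgroup.mem_sup_left (stronglyClosed_conj hYc (S.inv_mem hs) hy))
        (fun t ht => Subgroup.mem_sup_right (stronglyClosed_conj hT (S.inv_mem hs) ht))
      have := hm hw
      simpa [mul_assoc] using this⟩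
  have hWsub : ∀ (f g : W →* Ω), (∀ y : Y, f (Subgroup.inclusion le_sup_left y) =
      g (Subgroup.inclusion le_sup_left y)) → (∀ t : T, f (Subgroup.inclusion le_sup_right t) =
      g (Subgroup.inclusion le_sup_right t)) → f = g := by
    intro f g h1 h2
    refine MonoidHom.ext fun z => ?_
    have hle : W ≤ (MonoidHom.eqLocus f g).map W.subtype := sup_le
      (fun y hy => ⟨_, h1 ⟨y, hy⟩, rfl⟩) (fun t ht => ⟨_, h2 ⟨t, ht⟩, rfl⟩)
    obtain ⟨w, hw, hwe⟩ := hle z.2
    exact (Subtype.ext hwe : w = z) ▸ hw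
  have hφY : ∀ y : Y, φW (Subgroup.inclusion le_sup_left y) = ((γ y : Y) : Ω) := fun y =>
    hag y _ y.2
  have hφT : ∀ t : T, φW (Subgroup.inclusion le_sup_right t) = (t : Ω) := fun t =>
    congrArg Subtype.val (hfixT _ t.2)
  -- conjugation by `C_S(Y)` commutes with `γT`
  have hcomm : ∀ g ∈ centralizerIn S Y, ∀ (w : W) (hm : g * (w : Ω) * g⁻¹ ∈ W),
      φW ⟨g * w * g⁻¹, hm⟩ = g * φW w * g⁻¹ := by
    intro g hg
    have hgW : ∀ w : W, g * (w : Ω) * g⁻¹ ∈ W := fun w =>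
      (Subgroup.mem_normalizer_iff.mp (hWnorm hg.1) _).mp w.2
    let f : W →* Ω := φW.comp ((conjHom W g).codRestrict W hgW)
    let k : W →* Ω := (MulAut.conj g).toMonoidHom.comp φW
    have hfk : f = k := by
      refine hWsub f k (fun y => ?_) fun t => ?_
      · show φW _ = g * φW _ * g⁻¹
        rw [hφY, show g * ((γ y : Y) : Ω) * g⁻¹ = ((γ y : Y) : Ω) by
          rw [← hg.2 _ (γ y).2, mul_inv_cancel_right], ← hφY]
        refine congrArg φW (Subtype.ext ?_)
        show g * (y : Ω) * g⁻¹ = y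
        rw [← hg.2 _ y.2, mul_inv_cancel_right]
      · show φW _ = g * φW _ * g⁻¹
        have hgt := stronglyClosed_conj hT hg.1 t.2
        rw [hφT]
        exact (congrArg φW (Subtype.ext rfl)).trans (hφT ⟨_, hgt⟩)
    exact fun w hm => DFunLike.congr_fun hfk w
  have hCext : centralizerIn S Y ≤ extender S W φW := fun g hg =>
    mem_extender_iff.mpr ⟨hg.1, hWnorm hg.1, g, hg.1, hcomm g hg⟩
  have hWext : W ≤ extender S W φW := le_extender hγTF
  have hψW : ∀ w : W, ψ (Subgroup.inclusion hWext w) = φW w := fun w => hψx w w.2 (hWext w.2)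
  -- displacements centralize `W`
  have hdW : ∀ (g : Ω) (hg : g ∈ centralizerIn S Y),
      g⁻¹ * ψ ⟨g, hCext hg⟩ ∈ centralizerIn S W := by
    intro g hg
    refine ⟨S.mul_mem (S.inv_mem hg.1) (apply_mem hψ _), fun v hv => ?_⟩
    obtain ⟨w, hw⟩ := γT.surjective ⟨v, hv⟩
    have hv' : φW w = v := congrArg Subtype.val hw
    have hgw : g * (w : Ω) * g⁻¹ ∈ W := (Subgroup.mem_normalizer_iff.mp (hWnorm hg.1) _).mp w.2
    have h2 := hcomm g hg w hgw
    rw [← hψW ⟨_, hgw⟩, hv',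
      show Subgroup.inclusion hWext ⟨g * w * g⁻¹, hgw⟩ =
        ⟨g, hCext hg⟩ * Subgroup.inclusion hWext w * (⟨g, hCext hg⟩)⁻¹ from Subtype.ext rfl,
      map_mul, map_mul, map_inv, hψW, hv'] at h2
    set q := ψ ⟨g, hCext hg⟩
    calc v * (g⁻¹ * q) = g⁻¹ * (g * v * g⁻¹) * q := by group
      _ = g⁻¹ * (q * v * q⁻¹) * q := by rw [h2]
      _ = g⁻¹ * q * v := by group
  have hUext : U ≤ extender S W φW := sup_le (le_sup_left.trans hWext) hCext
  have hUm : ∀ z : U, ψ (Subgroup.inclusion hUext z) ∈ U := by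
    refine apply_mem_of_sup (P := Y) (Q := centralizerIn S Y)
      (ψ.comp (Subgroup.inclusion hUext)) (fun y => ?_) fun g => ?_
    · refine hYU ?_
      have h := (hψW (Subgroup.inclusion le_sup_left y)).trans (hφY y)
      exact (congrArg ψ (Subtype.ext rfl)).trans h ▸ (γ y).2
    · have h := hdW g g.2
      have h' : (g : Ω)⁻¹ * ψ ⟨g, hCext g.2⟩ ∈ centralizerIn S Y :=
        ⟨h.1, fun y hy => h.2 y (Subgroup.mem_sup_left hy)⟩
      have h'' := Subgroup.mul_mem _ g.2 h'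
      rw [mul_inv_cancel_left] at h''
      exact (congrArg ψ (Subtype.ext rfl)).symm ▸ Subgroup.mem_sup_right h''
  obtain ⟨β₀, hβ₀, hβ₀x⟩ := exists_aut_of_hom' F (restrict_mem hψ hUext) hUm
  have hβ₀Y : ∀ y : Y, ((β₀ (Subgroup.inclusion hYU y) : U) : Ω) = ((γ y : Y) : Ω) := fun y =>
    (hβ₀x _).trans (((congrArg ψ (Subtype.ext rfl)).trans
      (hψW (Subgroup.inclusion le_sup_left y))).trans (hφY y))
  have hβ₀T : ∀ x : U, (x : Ω) ∈ T → β₀ x = x := fun x hx => Subtype.ext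
    ((hβ₀x _).trans (((congrArg ψ (Subtype.ext rfl)).trans
      (hψW (Subgroup.inclusion le_sup_right ⟨x, hx⟩))).trans (hφT ⟨x, hx⟩)))
  haveI := finite_autGroup F hUS
  have ho : orderOf β₀ ≠ 0 := by
    rw [← Subgroup.orderOf_mk (H := F.autGroup U) β₀ hβ₀]
    exact (orderOf_pos _).ne'
  obtain ⟨j, hj, hjp⟩ := exists_exponent (p := p) hc ((orderOf β₀).factorization p)
  set β := β₀ ^ j with hβ
  have hβF : β ∈ F.autGroup U := pow_mem hβ₀ j
  have hβco : (orderOf β).Coprime p := by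
    refine Nat.Coprime.coprime_dvd_left
      (orderOf_dvd_of_pow_eq_one (n := ordCompl[p] (orderOf β₀)) ?_)
      (Nat.coprime_ordCompl (Fact.out : p.Prime) ho).symm
    rw [hβ, ← pow_mul]
    refine orderOf_dvd_iff_pow_eq_one.mp ?_
    exact (Nat.ordProj_mul_ordCompl_eq_self (orderOf β₀) p).symm.dvd.trans
      (Nat.mul_dvd_mul hjp dvd_rfl)
  have hβY : ∀ y : Y, ((β (Subgroup.inclusion hYU y) : U) : Ω) = ((γ y : Y) : Ω) := fun y => by
    have h0 : Agree β₀ γ := fun x hx hxY =>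
      (congrArg (fun v : U => ((β₀ v : U) : Ω)) (Subtype.ext rfl)).trans (hβ₀Y ⟨x, hxY⟩)
    rw [hβ, show ((β₀ ^ j) (Subgroup.inclusion hYU y) : Ω) = _ from h0.pow j y _ y.2,
      hj (pow_orderOf_eq_one γ)]
  have hβT : ∀ x : U, (x : Ω) ∈ T → β x = x := fun x hx => by
    rw [hβ]
    clear hjp hj hβco hβF hβY hβ
    induction j with
    | zero => rfl
    | succ j ih => rw [pow_succ', MulAut.mul_apply, ih, hβ₀T x hx]
  -- `β` displaces `C_S(Y)` into `Y`
  have hcent : ∀ (z : Ω), z ∈ A → ∀ u : U, z * u = u * z := by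
    intro z hz u
    have hle : U ≤ Subgroup.centralizer ({z} : Set Ω) := sup_le
      (fun y hy w hw => by rw [Set.mem_singleton_iff.mp hw]; exact (hz.2 y hy).symm)
      (fun g hg w hw => by rw [Set.mem_singleton_iff.mp hw]; exact hg.2 z hz.1)
    exact hle u.2 z rfl
  have hβA : ∀ x : U, (x : Ω) ∈ A → ((β x : U) : Ω) ∈ A := fun x hx => by
    have e : x = Subgroup.inclusion hYU ⟨x, hx.1⟩ := rfl
    rw [e, hβY]
    refine ⟨(γ _).2, fun y hy => ?_⟩
    obtain ⟨y', hy'⟩ := γ.surjective ⟨y, hy⟩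
    rw [show y = ((γ y' : Y) : Ω) from (congrArg Subtype.val hy').symm, ← Subgroup.coe_mul,
      ← Subgroup.coe_mul, ← map_mul, ← map_mul]
    exact congrArg (fun v : Y => ((γ v : Y) : Ω)) (Subtype.ext (hx.2 y' y'.2))
  refine ⟨β, hβF, hβY, fun g hg => ?_⟩
  have hβC : ∀ x : U, (x : Ω) ∈ centralizerIn S Y → ((β x : U) : Ω) ∈ centralizerIn S Y := by
    intro x hx
    refine ⟨hUS (β x).2, fun y hy => ?_⟩
    obtain ⟨y', hy'⟩ := γ.surjective ⟨y, hy⟩
    rw [show y = ((β (Subgroup.inclusion hYU y') : U) : Ω) from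
      ((hβY y').trans (congrArg Subtype.val hy')).symm, ← Subgroup.coe_mul, ← Subgroup.coe_mul,
      ← map_mul, ← map_mul]
    exact congrArg (fun v : U => ((β v : U) : Ω)) (Subtype.ext (hx.2 y' y'.2))
  set d : U := g⁻¹ * β g with hd
  have hdY : (d : Ω) ∈ centralizerIn S Y :=
    Subgroup.mul_mem _ (Subgroup.inv_mem _ hg) (hβC g hg)
  have hdT : (d : Ω) ∈ centralizerIn S T := by
    refine ⟨hUS d.2, fun t ht => ?_⟩
    have hgt : (g : Ω) * t * (g : Ω)⁻¹ ∈ T := stronglyClosed_conj hT (hUS g.2) ht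
    have h1 := congrArg Subtype.val (hβT (g * ⟨t, hTU ht⟩ * g⁻¹) hgt)
    rw [map_mul, map_mul, map_inv, hβT ⟨t, hTU ht⟩ ht] at h1
    have h1' : ((β g : U) : Ω) * t * ((β g : U) : Ω)⁻¹ = (g : Ω) * t * (g : Ω)⁻¹ := h1
    show t * ((g : Ω)⁻¹ * ((β g : U) : Ω)) = (g : Ω)⁻¹ * ((β g : U) : Ω) * t
    calc t * ((g : Ω)⁻¹ * ((β g : U) : Ω))
        = (g : Ω)⁻¹ * ((g : Ω) * t * (g : Ω)⁻¹) * ((β g : U) : Ω) := by group
      _ = (g : Ω)⁻¹ * (((β g : U) : Ω) * t * ((β g : U) : Ω)⁻¹) * ((β g : U) : Ω) := by rw [h1']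
      _ = (g : Ω)⁻¹ * ((β g : U) : Ω) * t := by group
  have hdd : (((d⁻¹ * β d : U)) : Ω) ∈ A := by
    refine ⟨?_, fun y hy => ?_⟩
    · rw [hYe]
      exact Subgroup.subset_closure
        (displacement_mem_fixedElts hS hE hTU hUS hβF hβco hβT (c := d) hdT)
    · exact ((Subgroup.mul_mem _ (Subgroup.inv_mem _ hdY) (hβC d hdY)).2) y hy
  have hpow : ∀ n : ℕ, ∃ z : U, (z : Ω) ∈ A ∧ (β ^ n) g = g * d ^ n * z := by
    intro n
    induction n with
    | zero => exact ⟨1, one_mem _, by simp⟩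
    | succ n ih =>
      obtain ⟨z, hz, hzn⟩ := ih
      set y := d⁻¹ * β d
      refine ⟨y ^ n * β z, by
        rw [Subgroup.coe_mul, Subgroup.coe_pow]
        exact A.mul_mem (A.pow_mem hdd n) (hβA z hz), ?_⟩
      have hyd : Commute d y := Subtype.ext (hcent _ hdd d).symm
      rw [pow_succ', MulAut.mul_apply, hzn, map_mul, map_mul, map_pow,
        show β g = g * d from (mul_inv_cancel_left g (β g)).symm,
        show β d = d * y from (mul_inv_cancel_left d (β d)).symm, hyd.mul_pow, pow_succ']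
      group
  obtain ⟨z, hz, hzn⟩ := hpow (orderOf β)
  rw [pow_orderOf_eq_one, MulAut.one_apply, mul_assoc] at hzn
  have hdm : ((d : Ω)) ^ orderOf β ∈ A := by
    have h1 : d ^ orderOf β * z = 1 := left_eq_mul.mp hzn
    rw [← Subgroup.coe_pow, eq_inv_of_mul_eq_one_left h1, Subgroup.coe_inv]
    exact A.inv_mem hz
  obtain ⟨k, hk⟩ := hS ⟨d, hUS d.2⟩
  have hco : (orderOf β).Coprime (orderOf (d : Ω)) :=
    Nat.Coprime.coprime_dvd_right
      (orderOf_dvd_of_pow_eq_one (n := p ^ k) (congrArg Subtype.val hk)) (hβco.pow_right k)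
  obtain ⟨i, hi⟩ := exists_pow_eq_self_of_coprime hco
  show (d : Ω) ∈ A
  exact hi ▸ A.pow_mem hdm i

/-- `C_F(E)`: a normal subsystem over `C_S(E)` centralizing `T`. -/
theorem exists_centralizer_normal (hS : IsPGroup p S) (hE : E.IsNormalIn F p)
    (hY : Y ≤ centralizerIn S T) (hYe : Y = Subgroup.closure (fixedElts F E)) :
    ∃ D : FusionSystem Y, D.IsNormalIn F p ∧ ∀ P, D.Hom P ⊆ F.centralizerHom T P :=
  let ⟨D, h₁, h₂, _⟩ := exists_centralizer_normal_in hS hE hY hYe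
  ⟨D, h₁, h₂⟩

end CfsgLib.FusionBasics.Reduction
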