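import Cfsg.Agent.Lib.FusionBasics.Meet.Agree
import Cfsg.Agent.Lib.FusionModels.StronglyClosedCent
import Cfsg.Agent.Lib.Alperin.PPowerIndex
import Cfsg.Agent.Lib.Alperin.Receptive
import Cfsg.Agent.Lib.Alperin.NormalModel

/-!
The action of `S` on a strongly closed subgroup `T` and the preimages of normal subgroups of
`Aut_F(T)`.
-/

set_option autoImplicit false
set_option linter.style.haveILetI false
set_option linter.unusedSectionVars false

namespace CfsgLib.FusionBasics.Reduction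

open Cfsg Cfsg.FusionSystem CfsgLib.Alperin CfsgLib.FusionSub
open CfsgLib.FusionBasics.Meet

universe u

variable {Ω : Type u} [Group Ω] {S T : Subgroup Ω} {F : FusionSystem S} {p : ℕ} [Fact p.Prime]

/-- Conjugation by elements of `S` on `T`. -/
def act (hT : F.StronglyClosed T) : S →* F.autGroup T :=
  MonoidHom.mk' (fun s => ⟨conjAut T s (stronglyClosed_le_normalizer hT s.2),
      autInducedBy_le_autGroup F hT.1 (conjAut_mem s.2 _)⟩)
    fun s t => Subtype.ext (MulEquiv.ext fun x => Subtype.ext (by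
      show (s * t : Ω) * (x : Ω) * (s * t : Ω)⁻¹ = s * (t * x * (t : Ω)⁻¹) * (s : Ω)⁻¹
      group))

theorem act_apply (hT : F.StronglyClosed T) (s : S) (x : T) :
    ((((act hT s : F.autGroup T) : MulAut T) x : T) : Ω) = (s : Ω) * x * (s : Ω)⁻¹ := rfl

/-- The elements of `S` acting on `T` within `H`. -/
def rOf (hT : F.StronglyClosed T) (H : Subgroup (F.autGroup T)) : Subgroup Ω :=
  (H.comap (act hT)).map S.subtype

theorem mem_rOf {hT : F.StronglyClosed T} {H : Subgroup (F.autGroup T)} {x : Ω} :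
    x ∈ rOf hT H ↔ ∃ hx : x ∈ S, act hT ⟨x, hx⟩ ∈ H := by
  constructor
  · rintro ⟨s, hs, rfl⟩
    exact ⟨s.2, hs⟩
  · rintro ⟨hx, h⟩
    exact ⟨⟨x, hx⟩, h, rfl⟩

theorem rOf_le (hT : F.StronglyClosed T) (H : Subgroup (F.autGroup T)) : rOf hT H ≤ S :=
  fun _ hx => (mem_rOf.mp hx).1

theorem rOf_mono {hT : F.StronglyClosed T} {H H' : Subgroup (F.autGroup T)} (h : H ≤ H') :
    rOf hT H ≤ rOf hT H' := fun _ hx =>
  let ⟨hxS, hx'⟩ := mem_rOf.mp hx
  mem_rOf.mpr ⟨hxS, h hx'⟩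

theorem rOf_top (hT : F.StronglyClosed T) : rOf hT ⊤ = S :=
  le_antisymm (rOf_le hT _) fun _ hx => mem_rOf.mpr ⟨hx, trivial⟩

/-- Elements of `T` act by inner automorphisms. -/
theorem act_mem_of_mem {hT : F.StronglyClosed T} {E : FusionSystem T} {H : Subgroup (F.autGroup T)}
    (hH : (E.autGroup T).subgroupOf (F.autGroup T) ≤ H) {t : Ω} (ht : t ∈ T) :
    act hT ⟨t, hT.1 ht⟩ ∈ H :=
  hH (Subgroup.mem_subgroupOf.mpr
    (autInducedBy_le_autGroup E le_rfl (mem_autInducedBy_iff.mpr ⟨t, ht, fun _ => rfl⟩)))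

theorem le_rOf {hT : F.StronglyClosed T} {E : FusionSystem T} {H : Subgroup (F.autGroup T)}
    (hH : (E.autGroup T).subgroupOf (F.autGroup T) ≤ H) :
    T ⊔ centralizerIn S T ≤ rOf hT H := by
  refine sup_le (fun t ht => mem_rOf.mpr ⟨hT.1 ht, act_mem_of_mem hH ht⟩) fun c hc =>
    mem_rOf.mpr ⟨hc.1, ?_⟩
  have h1 : act hT ⟨c, hc.1⟩ = 1 := Subtype.ext (MulEquiv.ext fun x => Subtype.ext (by
    show c * (x : Ω) * c⁻¹ = x
    rw [← hc.2 x x.2, mul_inv_cancel_right]))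
  rw [h1]
  exact H.one_mem

theorem centralizerIn_rOf_le {hT : F.StronglyClosed T} {E : FusionSystem T}
    {H : Subgroup (F.autGroup T)} (hH : (E.autGroup T).subgroupOf (F.autGroup T) ≤ H) :
    centralizerIn S (rOf hT H) ≤ rOf hT H :=
  ((inf_le_inf_left S (Subgroup.centralizer_le (SetLike.coe_subset_coe.mpr
      ((le_sup_left : T ≤ T ⊔ centralizerIn S T).trans (le_rOf (hT := hT) hH))))).trans
    le_sup_right).trans (le_rOf hH)

/-- A map defined on `T` carries actions to conjugate actions. -/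
theorem act_transport [Finite T] (hT : F.StronglyClosed T) {W : Subgroup Ω} (hTW : T ≤ W)
    {ψ : W →* Ω} (hψ : ψ ∈ F.Hom W) :
    ∃ g : F.autGroup T, (∀ x : T, (((g : MulAut T) x : T) : Ω) = ψ (Subgroup.inclusion hTW x)) ∧
      ∀ x : W, act hT ⟨ψ x, apply_mem hψ x⟩ = g * act hT ⟨x, dom_le hψ x.2⟩ * g⁻¹ := by
  obtain ⟨a, ha, hax⟩ := exists_aut_of_hom' F (restrict_mem hψ hTW)
    fun x => stronglyClosed_apply hT hψ _ x.2
  refine ⟨⟨a, ha⟩, hax, fun x => ?_⟩
  rw [eq_mul_inv_iff_mul_eq]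
  refine Subtype.ext (MulEquiv.ext fun u => Subtype.ext ?_)
  show ψ x * ((a u : T) : Ω) * (ψ x)⁻¹ =
    ((a ((act hT ⟨x, dom_le hψ x.2⟩ : MulAut T) u) : T) : Ω)
  rw [hax, hax]
  show ψ x * ψ (Subgroup.inclusion hTW u) * (ψ x)⁻¹ = _
  rw [← map_inv, ← map_mul, ← map_mul]
  exact congrArg ψ (Subtype.ext rfl)

/-- `rOf` of a normal subgroup containing `Aut_E(T)` is strongly closed. -/
theorem rOf_stronglyClosed [Finite S] (hS : IsPGroup p S) (hF : F.IsSaturated p)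
    (hT : F.StronglyClosed T) {E : FusionSystem T} {H : Subgroup (F.autGroup T)} [hn : H.Normal]
    (hH : (E.autGroup T).subgroupOf (F.autGroup T) ≤ H) : F.StronglyClosed (rOf hT H) := by
  refine ⟨rOf_le hT H, fun P hP φ hφ x => ?_⟩
  haveI := finite_of_le hT.1
  obtain ⟨ψ, hψ, hlift⟩ := exists_lift_mod hS hF hT hφ
  obtain ⟨g, -, hg⟩ := act_transport hT le_sup_right hψ
  set x' : ↥(P ⊔ T) := Subgroup.inclusion le_sup_left x
  obtain ⟨hxS, hxH⟩ := mem_rOf.mp (hP x.2)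
  have h1 : act hT ⟨ψ x', apply_mem hψ x'⟩ ∈ H := by
    rw [hg x']
    exact hn.conj_mem _ hxH g
  have e : (⟨φ x, apply_mem hφ x⟩ : S) = (⟨_, hT.1 (hlift x)⟩ : S)⁻¹ * ⟨ψ x', apply_mem hψ x'⟩ :=
    Subtype.ext (show φ x = (ψ x' * (φ x)⁻¹)⁻¹ * ψ x' by group)
  refine mem_rOf.mpr ⟨apply_mem hφ x, ?_⟩
  rw [e, map_mul, map_inv]
  exact H.mul_mem (H.inv_mem (act_mem_of_mem hH (hlift x))) h1

/-- A `p`-automorphism in `Aut_E(T)` is inner. -/
theorem exists_eq_conj [Finite T] (hTp : IsPGroup p T) {E : FusionSystem T} (hE : E.IsSaturated p)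
    {a : MulAut T} (ha : a ∈ E.autGroup T) {k : ℕ} (hk : a ^ p ^ k = 1) :
    ∃ t ∈ T, ∀ x : T, ((a x : T) : Ω) = t * x * t⁻¹ := by
  haveI := finite_autGroup E (le_refl T)
  obtain ⟨-, R, hR⟩ :=
    (centralized_automized_of_fullyNormalized hTp hE (isFullyNormalized_top E)).2
  haveI : ((autInducedBy T T).subgroupOf (E.autGroup T)).Normal := ⟨fun n hn g => by
    rw [Subgroup.mem_subgroupOf] at hn ⊢
    obtain ⟨t, ht, htx⟩ := mem_autInducedBy_iff.mp hn
    refine mem_autInducedBy_iff.mpr ⟨((g : MulAut T) ⟨t, ht⟩ : T), Subtype.mem _, fun x => ?_⟩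
    show (((g : MulAut T) ((n : MulAut T) ((g : MulAut T)⁻¹ x)) : T) : Ω) = _
    rw [show (n : MulAut T) ((g : MulAut T)⁻¹ x) =
      ⟨t, ht⟩ * (g : MulAut T)⁻¹ x * (⟨t, ht⟩ : T)⁻¹ from Subtype.ext (htx _), map_mul, map_mul,
      map_inv, MulAut.apply_inv_self]
    rfl⟩
  have hm : ((autInducedBy T T).subgroupOf (E.autGroup T)).index.Coprime p := by
    rw [← hR]
    exact ((Fact.out : p.Prime).coprime_iff_not_dvd.mpr R.not_dvd_index).symm
  have := mem_of_pow_mem_of_coprime (x := (⟨a, ha⟩ : E.autGroup T)) (k := k) (Subtype.ext hk) hm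
    (Subgroup.pow_index_mem _ _)
  exact mem_autInducedBy_iff.mp (Subgroup.mem_subgroupOf.mp this)

/-- The elements acting within `Aut_E(T)` form `T C_S(T)`. -/
theorem rOf_bottom [Finite S] (hS : IsPGroup p S) (hT : F.StronglyClosed T) {E : FusionSystem T}
    (hE : E.IsSaturated p) :
    rOf hT ((E.autGroup T).subgroupOf (F.autGroup T)) = T ⊔ centralizerIn S T := by
  refine le_antisymm (fun x hx => ?_) (le_rOf le_rfl)
  obtain ⟨hxS, h⟩ := mem_rOf.mp hx
  haveI := finite_of_le hT.1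
  obtain ⟨k, hk⟩ := hS ⟨x, hxS⟩
  obtain ⟨t, ht, htx⟩ := exists_eq_conj (isPGroup_of_le hS hT.1) hE (Subgroup.mem_subgroupOf.mp h)
    (k := k) (by
      have := congrArg Subtype.val (congrArg (act hT) hk)
      rw [map_pow, map_one] at this
      exact this)
  exact (CfsgLib.FusionModels.mem_sup_centralizerIn_iff hT hxS).mpr
    ⟨t, ht, fun u hu => htx ⟨u, hu⟩⟩

end CfsgLib.FusionBasics.Reduction
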