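import Cfsg.Agent.Lib.FusionBasics.Central.CentralizerE

/-!
Maps between subgroups of `C_S(E)` extend over `T`.
-/

set_option autoImplicit false
set_option linter.style.haveILetI false
set_option linter.unusedSectionVars false
set_option maxHeartbeats 800000

namespace CfsgLib.FusionBasics.Reduction

open Cfsg Cfsg.FusionSystem CfsgLib.Alperin CfsgLib.Alperin.NormalLift
open CfsgLib.FusionBasics.Central CfsgLib.FusionSub

universe u

variable {Ω : Type u} [Group Ω] {S T Y : Subgroup Ω} [Finite S] {p : ℕ} [Fact p.Prime]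
  {F : FusionSystem S} {E : FusionSystem T}

/-- A map defined on an `E`-centric subgroup and a part of `C_S(E)` extends, on that part, over
`T`. -/
theorem extendsTo_of_centric (hS : IsPGroup p S) (hF : F.IsSaturated p) (hE : E.IsInvariantIn F)
    (hY : Y ≤ centralizerIn S T) (hYc : F.StronglyClosed Y)
    (hfix : ∀ (P : Subgroup Ω) (φ : P →* Ω), φ ∈ E.Hom P → FixY F Y P φ) {R : Subgroup Ω}
    (hR : E.IsCentric R) {A : Subgroup Ω} (hA : A ≤ Y) {g : ↥(R ⊔ A) →* Ω}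
    (hg : g ∈ F.Hom (R ⊔ A)) :
    ExtendsTo F T A (g.comp (Subgroup.inclusion le_sup_right)) := by
  have hT := hE.2.1
  haveI := finite_of_le hT.1
  suffices h : ∀ (n : ℕ) (R : Subgroup Ω), E.IsCentric R → Nat.card T - Nat.card R = n →
      ∀ A : Subgroup Ω, A ≤ Y → ∀ g : ↥(R ⊔ A) →* Ω, g ∈ F.Hom (R ⊔ A) →
        ExtendsTo F T A (g.comp (Subgroup.inclusion le_sup_right)) from
    h _ R hR rfl A hA g hg
  intro n
  induction n using Nat.strong_induction_on with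
  | _ n ih =>
  intro R hR hn A hA g hg
  rcases hR.1.eq_or_lt with rfl | hRT
  · exact ⟨_, restrict_mem hg (sup_comm A R).le, fun x => congrArg g (Subtype.ext rfl)⟩
  have hlift : ∀ R' : Subgroup Ω, R' ≤ T → Nat.card R < Nat.card R' → E.IsCentric R' →
      ∀ A : Subgroup Ω, A ≤ Y → ∀ g : ↥(R' ⊔ A) →* Ω, g ∈ F.Hom (R' ⊔ A) →
        ExtendsTo F T A (g.comp (Subgroup.inclusion le_sup_right)) :=
    fun R' hR' hlt hc A hA g hg => ih _ (by
      have := Subgroup.card_le_of_le (K := T) hR'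
      omega) R' hc rfl A hA g hg
  have hgR := restrict_mem hg (le_sup_left : R ≤ R ⊔ A)
  set gR := g.comp (Subgroup.inclusion (le_sup_left : R ≤ R ⊔ A))
  set R₁ := gR.range with hR₁
  have hR₁c : E.IsCentric R₁ := isCentric_of_hom_invariant hE hR hgR
  have hR₁card : Nat.card R₁ = Nat.card R := card_range_eq (F.injective_of_mem hgR)
  have hAcomm : ∀ (r : Ω), r ∈ R → ∀ a ∈ A, r * a = a * r := fun r hr a ha =>
    (hY (hA ha)).2 r (hR.1 hr)
  have hgA : ∀ a : A, g (Subgroup.inclusion le_sup_right a) ∈ centralizerIn S R₁ := fun a =>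
    ⟨apply_mem hg _, by
      rintro _ ⟨x, rfl⟩
      show g _ * g _ = g _ * g _
      rw [← map_mul, ← map_mul]
      exact congrArg g (Subtype.ext (hAcomm x x.2 a a.2))⟩
  have hgY : ∀ a : A, g (Subgroup.inclusion le_sup_right a) ∈ Y := fun a =>
    CfsgLib.FusionSub.stronglyClosed_apply hYc hg _ (hA a.2)
  obtain ⟨Q, hR₁Q, hQ⟩ := exists_isFullyNormalized F (range_le hgR)
  obtain ⟨η, hη, -, hηm⟩ := exists_hom_normalizerIn_of_fullyNormalized hS hF hQ hR₁Q
  have hR₁N : R₁ ≤ normalizerIn S R₁ := le_normalizerIn (range_le hgR)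
  have hgm : ∀ z, g z ∈ normalizerIn S R₁ := apply_mem_of_sup g
    (fun x => hR₁N ⟨x, rfl⟩) (fun a => centralizerIn_le_normalizerIn S R₁ (hgA a))
  set f := η.comp (g.codRestrict _ hgm) with hf
  have hfF : f ∈ F.Hom _ := F.comp_mem hg hη hgm
  set fR := f.comp (Subgroup.inclusion (le_sup_left : R ≤ R ⊔ A)) with hfRd
  have hfR : fR ∈ F.Hom R := restrict_mem hfF _
  have hfRr : fR.range = Q := by
    ext q
    rw [← hηm]
    constructor
    · rintro ⟨x, rfl⟩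
      exact ⟨⟨gR x, hR₁N ⟨x, rfl⟩⟩, ⟨x, rfl⟩, rfl⟩
    · rintro ⟨w, ⟨x, hx⟩, rfl⟩
      exact ⟨x, congrArg η (Subtype.ext hx)⟩
  have hQc : E.IsCentric Q := hfRr ▸ isCentric_of_hom_invariant hE hR hfR
  have hQcard : Nat.card Q = Nat.card R := hfRr ▸ card_range_eq (F.injective_of_mem hfR)
  -- the decomposition on `R`
  obtain ⟨a, ha, e, he, hex⟩ := hE.2.2.2 R hR.1 fR hfR
  obtain ⟨ε, hε, hεx, hεy⟩ := hfix R e he
  obtain ⟨β, hβ, hβx, -⟩ := exists_ext_centralizer hS hF hT ha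
  have hεm : ∀ z, ε z ∈ T ⊔ centralizerIn S T := apply_mem_of_sup ε
    (fun x => Subgroup.mem_sup_left ((hεx x).symm ▸ apply_mem he x))
    (fun z => Subgroup.mem_sup_right (hY ((hεy z).symm ▸ z.2)))
  set b := (β.comp (ε.codRestrict _ hεm)).comp
    (Subgroup.inclusion (sup_le_sup_left hA R)) with hbd
  have hbF : b ∈ F.Hom (R ⊔ A) := restrict_mem (F.comp_mem hε hβ hεm) _
  have hbR : ∀ x : R, b (Subgroup.inclusion le_sup_left x) = fR x := fun x => by
    refine Eq.trans ?_ (hex x (apply_mem he x)).symm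
    refine Eq.trans ?_ (hβx ⟨e x, apply_mem he x⟩)
    exact congrArg β (Subtype.ext ((congrArg ε (Subtype.ext rfl)).trans (hεx x)))
  set bA := b.comp (Subgroup.inclusion (le_sup_right : A ≤ R ⊔ A)) with hbAd
  set A₀ := bA.range with hA₀
  have hA₀Y : A₀ ≤ Y := by
    rintro _ ⟨x, rfl⟩
    exact CfsgLib.FusionSub.stronglyClosed_apply hYc hbF _ (hA x.2)
  have hbE : ExtendsTo F T A bA := by
    refine ⟨_, restrict_mem hβ (sup_le (le_sup_of_le_right (hA.trans hY)) le_sup_left :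
      A ⊔ T ≤ T ⊔ centralizerIn S T), fun x => congrArg β (Subtype.ext ?_)⟩
    exact ((congrArg ε (Subtype.ext rfl)).trans (hεy ⟨x, hA x.2⟩)).symm
  obtain ⟨θ, hθ, hθr, hθx, -⟩ := exists_inverse hbF rfl
  have hle : Q ⊔ A₀ ≤ b.range := by
    refine sup_le ?_ ?_
    · rw [← hfRr]
      rintro _ ⟨x, rfl⟩
      exact ⟨_, hbR x⟩
    · rintro _ ⟨x, rfl⟩
      exact ⟨_, rfl⟩
  have hθm : ∀ z, (θ.comp (Subgroup.inclusion hle)) z ∈ R ⊔ A :=
    fun z => hθr.le ⟨_, rfl⟩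
  set k := f.comp ((θ.comp (Subgroup.inclusion hle)).codRestrict _ hθm) with hkd
  have hkF : k ∈ F.Hom _ := F.comp_mem (restrict_mem hθ hle) hfF hθm
  have hkQ : ∀ q : Q, k (Subgroup.inclusion le_sup_left q) = q := by
    intro q
    obtain ⟨x, hx⟩ := hfRr.ge q.2
    refine Eq.trans (congrArg f (Subtype.ext ?_ : _ = Subgroup.inclusion le_sup_left x)) hx
    exact (congrArg θ (Subtype.ext (hx.symm.trans (hbR x).symm))).trans (hθx _ ⟨_, rfl⟩)
  have hky : ∀ x : A, k (Subgroup.inclusion le_sup_right ⟨bA x, ⟨x, rfl⟩⟩) =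
      f (Subgroup.inclusion le_sup_right x) := fun x =>
    congrArg f (Subtype.ext ((congrArg θ (Subtype.ext rfl)).trans
      (hθx (Subgroup.inclusion le_sup_right x) ⟨_, rfl⟩)))
  have hQT : Q < T := lt_of_le_of_ne hQc.1 fun h => by
    have := CfsgLib.FusionSub.card_lt_card (S := T) le_rfl hRT
    rw [← hQcard, h] at this
    exact lt_irrefl _ this
  obtain ⟨U, hUT, hQU, g₁, hg₁, -, hg₁A⟩ := exists_extend_fixing_sub hS hF hT hQ hQc hQT
    (A := A₀) (fun y hy => ⟨hYc.1 (hA₀Y hy), fun q hq => (hY (hA₀Y hy)).2 q (hQc.1 hq)⟩) hkF hkQ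
  have hkE : ExtendsTo F T A₀ (g₁.comp (Subgroup.inclusion le_sup_right)) :=
    hlift U hUT (hQcard ▸ CfsgLib.FusionSub.card_lt_card (hUT.trans hT.1) hQU)
      (CfsgLib.FusionExamples.isCentric_of_ge hQc hQU.le hUT) A₀ hA₀Y g₁ hg₁
  set fA := f.comp (Subgroup.inclusion (le_sup_right : A ≤ R ⊔ A)) with hfAd
  have hbm : ∀ x, bA x ∈ A₀ := fun x => ⟨x, rfl⟩
  have hfE : ExtendsTo F T A fA := by
    have h := (closed_extendsTo hT).comp (restrict_mem hbF le_sup_right : bA ∈ F.Hom A)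
      (restrict_mem hg₁ le_sup_right) hbm hbE hkE
    refine ⟨h.choose, h.choose_spec.1, fun x => (h.choose_spec.2 x).trans ?_⟩
    exact (hg₁A ⟨bA x, hbm x⟩).trans (hky x)
  -- pull back along `η`
  have hR₁T : R₁ < T := lt_of_le_of_ne hR₁c.1 fun h => by
    have := CfsgLib.FusionSub.card_lt_card (S := T) le_rfl hRT
    rw [← hR₁card, h] at this
    exact lt_irrefl _ this
  obtain ⟨t, ht, htN, htP⟩ := CfsgLib.FusionSub.exists_mem_normalizer_not_mem hS hR₁T hT.1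
  set P₁ := T ⊓ normalizerIn S R₁ with hP₁
  have hRP₁ : R₁ < P₁ := lt_of_le_of_ne (le_inf hR₁c.1 hR₁N) fun h =>
    htP (h.ge ⟨ht, hT.1 ht, htN⟩)
  have hη₁ := restrict_mem hη (inf_le_right : P₁ ≤ normalizerIn S R₁)
  set R₂ := (η.comp (Subgroup.inclusion (inf_le_right : P₁ ≤ normalizerIn S R₁))).range with hR₂
  have hR₂c : E.IsCentric R₂ := isCentric_of_hom_invariant hE
    (CfsgLib.FusionExamples.isCentric_of_ge hR₁c hRP₁.le inf_le_left) hη₁
  have hR₂card : Nat.card R < Nat.card R₂ := by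
    rw [card_range_eq (F.injective_of_mem hη₁), ← hR₁card]
    exact CfsgLib.FusionSub.card_lt_card (inf_le_left.trans hT.1) hRP₁
  obtain ⟨θ', hθ', -, hθ'x, -⟩ := exists_inverse hη rfl
  set A' := fA.range with hA'
  have hA'Y : A' ≤ Y := by
    rintro _ ⟨x, rfl⟩
    exact CfsgLib.FusionSub.stronglyClosed_apply hYc hfF _ (hA x.2)
  have hle' : R₂ ⊔ A' ≤ η.range := by
    refine sup_le ?_ ?_
    · rintro _ ⟨w, rfl⟩
      exact ⟨_, rfl⟩
    · rintro _ ⟨x, rfl⟩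
      exact ⟨_, rfl⟩
  have hθE := hlift R₂ hR₂c.1 hR₂card hR₂c A' hA'Y _ (restrict_mem hθ' hle')
  have hfm : ∀ x, fA x ∈ A' := fun x => ⟨x, rfl⟩
  have h := (closed_extendsTo hT).comp (restrict_mem hfF le_sup_right : fA ∈ F.Hom A)
    (restrict_mem (restrict_mem hθ' hle') le_sup_right) hfm hfE hθE
  refine ⟨h.choose, h.choose_spec.1, fun x => (h.choose_spec.2 x).trans ?_⟩
  exact (congrArg θ' (Subtype.ext rfl)).trans (hθ'x ⟨_, hgm _⟩ ⟨_, rfl⟩)

/-- Every map between subgroups of `C_S(E)` extends over `T`. -/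
theorem extendsTo_of_hom (hS : IsPGroup p S) (hE : E.IsNormalIn F p)
    (hY : Y ≤ centralizerIn S T) (hYc : F.StronglyClosed Y)
    (hfix : ∀ (P : Subgroup Ω) (φ : P →* Ω), φ ∈ E.Hom P → FixY F Y P φ) {P : Subgroup Ω}
    (hP : P ≤ Y) {φ : P →* Ω} (hφ : φ ∈ F.Hom P) : ExtendsTo F T P φ := by
  obtain ⟨⟨hEs, hF, hEi⟩, -⟩ := hE
  have hT := hEi.2.1
  let Good : ∀ Q : Subgroup Ω, (Q →* Ω) → Prop := fun Q φ =>
    ExtendsTo F T (Q ⊓ Y) (φ.comp (Subgroup.inclusion inf_le_left))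
  let W : FusionSystem S :=
    { Hom := fun Q => {φ | φ ∈ F.Hom Q ∧ Good Q φ}
      le_of_mem := fun h => F.le_of_mem h.1
      injective_of_mem := fun h => F.injective_of_mem h.1
      conj_mem := fun {Q g} hQ hg => ⟨F.conj_mem hQ hg, conjHom _ g,
        F.conj_mem (sup_le (inf_le_left.trans hQ) hT.1) hg, fun x => rfl⟩
      comp_mem := fun {Q R φ ψ} h₁ h₂ h => by
        refine ⟨F.comp_mem h₁.1 h₂.1 h, ?_⟩
        have hm : ∀ x : ↥(Q ⊓ Y), φ (Subgroup.inclusion inf_le_left x) ∈ R ⊓ Y := fun x =>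
          ⟨h _, CfsgLib.FusionSub.stronglyClosed_apply hYc h₁.1 _ x.2.2⟩
        have hc := (closed_extendsTo hT).comp
          (restrict_mem h₁.1 (inf_le_left : Q ⊓ Y ≤ Q))
          (restrict_mem h₂.1 (inf_le_left : R ⊓ Y ≤ R)) hm h₁.2 h₂.2
        exact ⟨hc.choose, hc.choose_spec.1, fun x => (hc.choose_spec.2 x).trans
          (congrArg ψ (Subtype.ext rfl))⟩
      inv_mem := fun {Q φ} hφ => by
        obtain ⟨θ, hθ, hθr, hθx, -⟩ := exists_inverse hφ.1 rfl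
        refine ⟨θ, ⟨hθ, ?_⟩, fun x => hθx x ⟨x, rfl⟩⟩
        refine (closed_extendsTo hT).inv (restrict_mem hφ.1 (inf_le_left : Q ⊓ Y ≤ Q))
          (restrict_mem hθ (inf_le_left : φ.range ⊓ Y ≤ φ.range)) ?_ ?_ hφ.2
        · ext y
          constructor
          · rintro ⟨x, rfl⟩
            exact ⟨⟨_, rfl⟩, CfsgLib.FusionSub.stronglyClosed_apply hYc hφ.1 _ x.2.2⟩
          · rintro ⟨⟨x, rfl⟩, hy⟩
            have hx' : θ ⟨φ x, ⟨x, rfl⟩⟩ ∈ Y :=
              CfsgLib.FusionSub.stronglyClosed_apply hYc hθ _ hy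
            rw [show θ ⟨φ x, ⟨x, rfl⟩⟩ = (x : Ω) from hθx x ⟨x, rfl⟩] at hx'
            exact ⟨⟨x, x.2, hx'⟩, congrArg φ (Subtype.ext rfl)⟩
        · intro x hx
          exact (congrArg θ (Subtype.ext rfl)).trans (hθx _ ⟨_, rfl⟩) }
  suffices h : ∀ Q, F.Hom Q ⊆ W.Hom Q by
    obtain ⟨ψ, hψ, hψx⟩ := (h P hφ).2
    exact ⟨_, restrict_mem hψ (sup_le_sup_right (le_inf le_rfl hP) T),
      fun x => (congrArg ψ (Subtype.ext rfl)).trans (hψx (Subgroup.inclusion (le_inf le_rfl hP) x))⟩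
  refine alperin_centric_radical hS hF W fun Q hQn hQc hQr α hα => ?_
  have hQTc : E.IsCentric (Q ⊓ T) := by
    by_contra hcon
    rcases hQr with rfl | hrad
    · rw [inf_eq_right.mpr hT.1] at hcon
      haveI := finite_of_le hT.1
      exact hcon (isCentric_top E)
    · haveI := finite_of_le hT.1
      obtain ⟨φ, hφ, x, hx, hxP, β, hβ, hβx⟩ :=
        exists_conj_pCore_induced hS hF hT hEi.1 hQn.1 hcon
      exact not_isRadical_of_pCore_induced hQc hφ hx hxP hβ hβx hrad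
  have hα' := (mem_autGroup_iff F hQn.1).mp hα
  refine (mem_autGroup_iff W hQn.1).mpr ⟨hα', ?_⟩
  have hle : (Q ⊓ T) ⊔ (Q ⊓ Y) ≤ Q := sup_le inf_le_left inf_le_left
  obtain ⟨ψ, hψ, hψx⟩ := extendsTo_of_centric hS hF hEi hY hYc hfix hQTc
    (A := Q ⊓ Y) inf_le_right (restrict_mem hα' hle)
  exact ⟨ψ, hψ, fun x => (hψx x).trans (congrArg (Q.subtype.comp α.toMonoidHom) (Subtype.ext rfl))⟩

end CfsgLib.FusionBasics.Reduction
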