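import Cfsg.Agent.Lib.FusionBasics.Central.Residual
import Cfsg.Agent.Lib.FusionBasics.Layer
import Cfsg.Prelude.Def_FusionReduction

/-!
The residual limit is the largest stable weakly normal subsystem.
-/

set_option autoImplicit false
set_option linter.style.haveILetI false
set_option linter.unusedSectionVars false

namespace CfsgLib.FusionBasics.Reduction

open Cfsg Cfsg.FusionSystem CfsgLib.Alperin CfsgLib.FusionSub CfsgLib.FusionBasics
open CfsgLib.FusionBasics.Central

universe u

variable {Ω : Type u} [Group Ω] {S R U V : Subgroup Ω} {p : ℕ}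

/-- Equal to its `p`-residual and to its `p'`-residual. -/
def Stable (L : FusionSystem U) (p : ℕ) : Prop :=
  L.hyperfocalSubgroup p = U ∧ L.IsPPrimeResidual p L

theorem limit_stable {L : FusionSystem U} {F : FusionSystem S}
    (h : L.IsResidualLimitOf F p) : Stable L p := by
  induction h with
  | stable F p a b => exact ⟨a, b⟩
  | step F p D D' hD hD' hL ih => exact ih

/-- The residual limit is weakly normal wherever the system is. -/
theorem limit_weaklyNormal [hp : Fact p.Prime] [hfin : Finite S] (hS : IsPGroup p S)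
    {G : FusionSystem S} {F : FusionSystem R} (hFG : F.IsWeaklyNormalIn G p)
    {L : FusionSystem U} (h : L.IsResidualLimitOf F p) : L.IsWeaklyNormalIn G p := by
  revert hp hfin hS hFG
  induction h with
  | stable F p a b => exact fun {_} {_} _ hFG => hFG
  | step F p D D' hD hD' hL ih =>
    intro hp hfin hS hFG
    exact ih hS (IsOp.isNormalIn hS hFG ⟨D, hD, hD'⟩).1

/-- A stable weakly normal subsystem stays weakly normal in the `p'`-residual of the
`p`-residual. -/
theorem stable_weaklyNormal_op [Fact p.Prime] [Finite R] (hR : IsPGroup p R) {F : FusionSystem R}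
    {M : FusionSystem V} (hM : M.IsWeaklyNormalIn F p) (hs : Stable M p)
    {X : FusionSystem (F.hyperfocalSubgroup p)} (hX : IsOp F p X) :
    M.IsWeaklyNormalIn X p := by
  have hVR := hM.2.2.2.1.1
  haveI := finite_of_le hVR
  have hVp := isPGroup_of_le hR hVR
  obtain ⟨X₁, hX₁⟩ := exists_op hVp hM.1
  have hn := (hX.isNormalIn_op hR hM hX₁).1
  obtain ⟨E, hE, hEX⟩ := hX₁
  have h1 : M.IsSubsystemOf E :=
    subsystem_of_pPowerIndex hVp hM.1 (fun _ _ h => h) hE.2 hs.1.ge
  have hME : ∀ P, E.Hom P = M.Hom P := fun P => Set.Subset.antisymm (hE.2.1 P) (h1 P)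
  suffices h : ∀ (W : Subgroup Ω) (E X₁ : FusionSystem W), W = V → (∀ P, E.Hom P = M.Hom P) →
      E.IsPPrimeResidual p X₁ → X₁.IsWeaklyNormalIn X p → M.IsWeaklyNormalIn X p from
    h _ E X₁ hs.1 hME hEX hn
  intro W E' Y hW hh hY hYn
  subst hW
  obtain rfl : E' = M := system_ext hh
  obtain rfl : Y = E' := system_eq_of_subsystem hY.2.1.1 (hs.2.2.2 Y hY.1 hY.2.1)
  exact hYn

/-- The residual limit contains every stable weakly normal subsystem. -/
theorem stable_le_limit [hp : Fact p.Prime] [hfin : Finite R] (hR : IsPGroup p R)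
    {F : FusionSystem R} {L : FusionSystem U} (h : L.IsResidualLimitOf F p)
    {M : FusionSystem V} (hM : M.IsWeaklyNormalIn F p) (hs : Stable M p) :
    M.IsSubsystemOf L := by
  revert hp hfin hR hM hs
  induction h with
  | stable F p a b => exact fun {_} {_} _ hM _ => hM.2.2.1
  | step F p D D' hD hD' hL ih =>
    intro hp hfin hR hM hs
    haveI := finite_of_le (hyperfocal_le F p)
    exact ih (isPGroup_of_le hR (hyperfocal_le F p))
      (stable_weaklyNormal_op hR hM hs ⟨D, hD, hD'⟩) hs

/-- A weakly normal subsystem is weakly normal in a saturated subsystem containing it. -/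
theorem weaklyNormal_of_le [Fact p.Prime] [Finite S] (hS : IsPGroup p S) {F : FusionSystem S}
    {K : FusionSystem R} {M : FusionSystem V} (hK : K.IsSaturated p) (hKF : K.IsSubsystemOf F)
    (hMK : M.IsSubsystemOf K) (hM : M.IsWeaklyNormalIn F p) : M.IsWeaklyNormalIn K p := by
  have hRS := CfsgLib.FusionSub.subsystem_le hKF
  haveI := finite_of_le hRS
  exact ⟨hM.1, hK, isInvariantIn_of_le (isPGroup_of_le hS hRS) hK hKF hMK hM.2.2⟩

/-- A weakly normal subsystem over a subgroup containing its centralizer is normal. -/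
theorem isNormalIn_of_self_centralizing [Fact p.Prime] [Finite S] {F : FusionSystem S}
    {K : FusionSystem R} (hK : K.IsWeaklyNormalIn F p) (hC : centralizerIn S R ≤ R) :
    K.IsNormalIn F p := by
  refine ⟨hK, fun α hα => ?_⟩
  have key : ∀ W : Subgroup Ω, W = R → ∀ hle : R ≤ W, ∃ β ∈ F.autGroup W,
      ∀ x : R, ((β (Subgroup.inclusion hle x) : W) : Ω) = ((α x : R) : Ω) := by
    intro W hW hle
    subst hW
    exact ⟨α, autGroup_mono hK.2.2.1 _ hα, fun x => rfl⟩
  obtain ⟨β, hβ, hβα⟩ := key _ (sup_eq_left.mpr hC) le_sup_left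
  refine ⟨β, hβ, hβα, fun c hc => ?_⟩
  have e : ((β c : ↥(R ⊔ centralizerIn S R)) : Ω) = ((α ⟨c, hC hc⟩ : R) : Ω) := hβα ⟨c, hC hc⟩
  rw [e]
  refine ⟨R.mul_mem (R.inv_mem (hC hc)) (α _).2, fun y hy => ?_⟩
  obtain ⟨x, hx⟩ := α.surjective ⟨y, hy⟩
  have h1 : y * (α ⟨c, hC hc⟩ : R) = (α ⟨c, hC hc⟩ : R) * y := by
    rw [show y = ((α x : R) : Ω) from (congrArg Subtype.val hx).symm, ← Subgroup.coe_mul,
      ← Subgroup.coe_mul, ← map_mul, ← map_mul]
    exact congrArg (fun z : R => ((α z : R) : Ω)) (Subtype.ext (hc.2 x x.2))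
  have h2 : y * (c : Ω)⁻¹ = (c : Ω)⁻¹ * y := Subgroup.inv_mem _ hc.2 y hy
  rw [← mul_assoc, h2, mul_assoc, h1, mul_assoc]

end CfsgLib.FusionBasics.Reduction
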