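import Cfsg.Agent.Lib.FusionBasics.Reduction.Centralized

/-!
The residual limit lies in a normal subsystem with `C_S(E) ≤ T` and `p`-solvable automizer quotient.
-/

set_option autoImplicit false
set_option linter.style.haveILetI false
set_option linter.unusedSectionVars false

namespace CfsgLib.FusionBasics.Reduction

open Cfsg Cfsg.FusionSystem CfsgLib.Alperin CfsgLib.FusionSub CfsgLib.FusionBasics
open CfsgLib.FusionBasics.Central

universe u

variable {Ω : Type u} [Group Ω] {S T : Subgroup Ω} [Finite S] {p : ℕ} [Fact p.Prime]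
  {F : FusionSystem S} {E : FusionSystem T}

theorem stable_le_sub (hS : IsPGroup p S) (hE : E.IsNormalIn F p)
    [hn : ((E.autGroup T).subgroupOf (F.autGroup T)).Normal]
    (hsolv : IsPSolvable p (↥(F.autGroup T) ⧸ (E.autGroup T).subgroupOf (F.autGroup T)))
    (hfe : fixedElts F E ⊆ T) {U : Subgroup Ω} (L : FusionSystem U) (hL : L.IsWeaklyNormalIn F p)
    (hst : Stable L p) : L.IsSubsystemOf E := by
  have hT := hE.1.2.2.2.1
  obtain ⟨K, hK, hEK, haut, hlim⟩ := exists_envelope hS hE hsolv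
  have hKF := hK.1.2.2.1
  have hRS := hK.1.2.2.2.1.1
  haveI := finite_of_le hRS
  haveI := finite_of_le hT.1
  have hRp := isPGroup_of_le hS hRS
  have hKs := hK.1.1
  have hhyp := hyperfocal_le_of_centralizer hS hE hfe hKs hKF haut
  obtain ⟨K₁, hK₁s, hK₁i⟩ :=
    CfsgLib.FusionBasics.PPower.exists_pPowerIndex hRp hKs le_sup_left hhyp
  have hTn : (T.subgroupOf (T ⊔ centralizerIn S T)).Normal :=
    ⟨fun n hn s => stronglyClosed_conj hT (hRS s.2) hn⟩
  have hK₁K := (Cfsg.Agent.S5120.result p hRp K hKs T le_sup_left hTn hhyp K₁ hK₁s hK₁i).1.2.2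
  have hEKw := weaklyNormal_of_le hS hKs hKF hEK hE.1
  obtain ⟨X, hX⟩ := exists_isPPrimeResidual (isPGroup_of_le hS hT.1) hK₁s
  have hXE : X.IsSubsystemOf E :=
    pPrimeResidual_le_of_invariant (isPGroup_of_le hS hT.1) hK₁s hE.1.1 hK₁K hEKw.2.2 hX
  have hLK := hlim L hL hst
  have hUT : U ≤ T := by
    rw [← hst.1]
    exact (Central.hyperfocal_mono hLK).trans hhyp
  have hLK₁ := subsystem_of_pPowerIndex hRp hL.1 hLK hK₁i hUT
  have hK₁F : K₁.IsSubsystemOf F := fun P φ hφ => hKF P (hK₁i.1 P hφ)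
  have hLK₁w := weaklyNormal_of_le hS hK₁s hK₁F hLK₁ hL
  exact fun P φ hφ => hXE P
    (Central.pPrimeResidual_mono (isPGroup_of_le hS hT.1) hLK₁w hst.2 hX P hφ)

/-- The residual limits of `F` and `E` agree. -/
theorem limit_eq_sub (hS : IsPGroup p S) (hE : E.IsNormalIn F p)
    [hn : ((E.autGroup T).subgroupOf (F.autGroup T)).Normal]
    (hsolv : IsPSolvable p (↥(F.autGroup T) ⧸ (E.autGroup T).subgroupOf (F.autGroup T)))
    (hCE : ∀ Y : Subgroup Ω, Y ≤ centralizerIn S T →
      (∀ C : FusionSystem (centralizerIn S Y), F.IsCentralizerSystem Y C → E.IsSubsystemOf C) →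
      Y ≤ T)
    {U V : Subgroup Ω} {Finf : FusionSystem U} (hFinf : Finf.IsResidualLimitOf F p)
    {Einf : FusionSystem V} (hEinf : Einf.IsResidualLimitOf E p) (P : Subgroup Ω) :
    Finf.Hom P = Einf.Hom P := by
  have hT := hE.1.2.2.2.1
  haveI := finite_of_le hT.1
  have hfe : fixedElts F E ⊆ T := by
    set Y := Subgroup.closure (fixedElts F E) with hY
    have hle : Y ≤ centralizerIn S T := (Subgroup.closure_le _).mpr fun y hy => hy.1
    have hT' : T ≤ centralizerIn S Y := fun t ht =>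
      ⟨hT.1 ht, fun z hz => ((hle hz).2 t ht).symm⟩
    refine fun y hy => hCE Y hle (fun C hC Q φ hφ => ?_) (Subgroup.subset_closure hy)
    rw [hC Q]
    exact ⟨hE.1.2.2.1 Q hφ, (dom_le hφ).trans hT', fun x => hT' (apply_mem hφ x),
      fixY_closure_fixedElts hS hE hφ⟩
  have hFn := limit_weaklyNormal hS (Layer.isNormalIn_self hE.1.2.1).1 hFinf
  exact (limit_hom_eq hS hE.1 hFinf (stable_le_sub hS hE hsolv hfe Finf hFn (limit_stable hFinf))
    hEinf P).symm

end CfsgLib.FusionBasics.Reduction
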