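import Cfsg.Agent.Lib.FusionBasics.Reduction.Limit
import Cfsg.Agent.Lib.FusionBasics.Reduction.Act
import Cfsg.Agent.Lib.Alperin.ClassNormal
import Cfsg.Agent.Lib.Alperin.LeastNormal
import Cfsg.Agent.S5120

/-!
The two steps shrinking `Aut_K(T)` inside a normal subsystem `K` containing `E`.
-/

set_option autoImplicit false
set_option linter.style.haveILetI false
set_option linter.unusedSectionVars false
set_option maxHeartbeats 800000

namespace CfsgLib.FusionBasics.Reduction

open Cfsg Cfsg.FusionSystem CfsgLib.Alperin CfsgLib.FusionSub CfsgLib.FusionBasics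
open CfsgLib.FusionBasics.Meet CfsgLib.FusionBasics.Central

universe u

variable {Ω : Type u} [Group Ω] {S T R : Subgroup Ω} {p : ℕ} {F : FusionSystem S}

/-- What the descending systems satisfy. -/
structure EnvData (F : FusionSystem S) (E : FusionSystem T) (p : ℕ) (hT : F.StronglyClosed T)
    (H : Subgroup (F.autGroup T)) (K : FusionSystem R) : Prop where
  base : R = rOf hT H
  normal : K.IsNormalIn F p
  contains : E.IsSubsystemOf K
  aut : ∀ a : F.autGroup T, (a : MulAut T) ∈ K.autGroup T → a ∈ H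
  limit : ∀ {U : Subgroup Ω} (L : FusionSystem U), L.IsWeaklyNormalIn F p → Stable L p →
    L.IsSubsystemOf K

/-- There is a normal subsystem with these properties. -/
def Env (F : FusionSystem S) (E : FusionSystem T) (p : ℕ) (hT : F.StronglyClosed T)
    (H : Subgroup (F.autGroup T)) : Prop :=
  ∃ (R : Subgroup Ω) (K : FusionSystem R), EnvData F E p hT H K

/-- An invariant subsystem of an invariant subsystem is invariant once it is conjugation
invariant. -/
theorem invariant_trans [Finite S] {R' : Subgroup Ω} {K : FusionSystem R} {K' : FusionSystem R'}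
    (hK : K.IsInvariantIn F) (hK' : K'.IsInvariantIn K) (hR' : F.StronglyClosed R')
    (hinv : InvCond K' F) : K'.IsInvariantIn F := by
  have hle : R' ≤ R := hK'.2.1.1
  haveI := finite_of_le hR'.1
  refine ⟨fun P φ hφ => hK.1 P (hK'.1 P hφ), hR', hinv, fun P hP φ hφ => ?_⟩
  obtain ⟨α, hα, φ₀, hφ₀, hx⟩ := hK.2.2.2 P (hP.trans hle) φ hφ
  obtain ⟨β, hβ, φ₁, hφ₁, hx₁⟩ := hK'.2.2.2 P hP φ₀ hφ₀
  have hr := restrict_mem ((mem_autGroup_iff F hK.2.1.1).mp hα) hle
  obtain ⟨αW, hαW, hαWx⟩ := exists_aut_of_hom' F hr fun x => stronglyClosed_apply hR' hr x x.2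
  refine ⟨αW * β, mul_mem hαW (CfsgLib.FusionSub.autGroup_mono hK.1 _ hβ), φ₁, hφ₁, fun x hxW => ?_⟩
  rw [hx x (apply_mem hφ₀ x), MulAut.mul_apply, hαWx]
  exact congrArg (fun v : R => ((α v : R) : Ω)) (Subtype.ext (hx₁ x hxW))

variable [Finite S] [Fact p.Prime] {E : FusionSystem T}

theorem env_top (hF : F.IsSaturated p) (hT : F.StronglyClosed T) (hE : E.IsSubsystemOf F) :
    Env F E p hT ⊤ :=
  ⟨S, F, (rOf_top hT).symm, Layer.isNormalIn_self hF, hE, fun _ _ => trivial,
    fun _ hL _ => hL.2.2.1⟩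

/-- The class map of a step. -/
def stepChi {K : FusionSystem R} {hT : F.StronglyClosed T} {H : Subgroup (F.autGroup T)}
    (hd : EnvData F E p hT H K) (H' : Subgroup (F.autGroup T)) [H'.Normal] :
    K.autGroup T →* ↥H ⧸ H'.subgroupOf H :=
  (QuotientGroup.mk' (H'.subgroupOf H)).comp <|
    MonoidHom.mk' (fun a => ⟨⟨a, CfsgLib.FusionSub.autGroup_mono hd.normal.1.2.2.1 T a.2⟩,
      hd.aut _ a.2⟩) fun _ _ => rfl

theorem stepChi_eq_one {K : FusionSystem R} {hT : F.StronglyClosed T}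
    {H : Subgroup (F.autGroup T)} (hd : EnvData F E p hT H K) (H' : Subgroup (F.autGroup T))
    [H'.Normal] (a : K.autGroup T) :
    stepChi hd H' a = 1 ↔
      (⟨a, CfsgLib.FusionSub.autGroup_mono hd.normal.1.2.2.1 T a.2⟩ : F.autGroup T) ∈ H' :=
  (QuotientGroup.eq_one_iff _).trans Subgroup.mem_subgroupOf

/-- The step of index prime to `p`. -/
theorem env_coprime (hS : IsPGroup p S) (hEn : E.IsNormalIn F p) (hT : F.StronglyClosed T)
    {H H' : Subgroup (F.autGroup T)} [H'.Normal] (hle : H' ≤ H)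
    (hH' : (E.autGroup T).subgroupOf (F.autGroup T) ≤ H') (hco : (H'.relIndex H).Coprime p)
    (h : Env F E p hT H) : Env F E p hT H' := by
  obtain ⟨R, K, hd⟩ := h
  obtain ⟨hKs, hF, hKi⟩ := hd.normal.1
  have hKF := hKi.1
  have hRS := hKi.2.1.1
  haveI := finite_of_le hRS
  haveI := finite_of_le hT.1
  have hRp := isPGroup_of_le hS hRS
  have hEK := weaklyNormal_of_le hS hKs hKF hd.contains hEn.1
  set χ := stepChi hd H' with hχ
  have hΔ : (Nat.card (↥H ⧸ H'.subgroupOf H)).Coprime p := by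
    rw [← Subgroup.index_eq_card]
    exact hco
  have hs : ClassSetup K E χ p :=
    { pgroup := hRp, saturated := hKs, saturated_sub := hEn.1.1, sub := hd.contains
      closed := hEK.2.2.2.1, invCond := hEK.2.2.2.2.1, decomp := hEK.2.2.2.2.2
      coprime := hΔ
      ker := fun α hα => (stepChi_eq_one hd H' α).mpr (hH' (Subgroup.mem_subgroupOf.mpr hα)) }
  set π := χ.comp (resHom hs.closed) with hπd
  have hπ : h0 K p ≤ π.ker := h0_le_ker hs
  set K' := classSystem π hRp with hK'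
  have hK's : K'.IsSaturated p := classSystem_isSaturated hRp hKs hπ
  have hK'K : K'.IsInvariantIn K := (classSystem_isNormalIn hRp hKs hπ).1.2.2
  have hinv : InvCond K' F := by
    intro P hP φ hφ α hα
    obtain ⟨a, ha1, z, hz, hza⟩ := (show Cl π p P φ 1 from hφ)
    obtain ⟨χz, hχz, hχzx⟩ := Gen.transport_invariant hKi hα hz
    have ha' : α * (a : MulAut R) * α⁻¹ ∈ K.autGroup R := conj_mem_sub hKi le_rfl hα a.2
    set a' : K.autGroup R := ⟨α * (a : MulAut R) * α⁻¹, ha'⟩ with ha'd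
    have hπa : π a' = 1 := by
      have hr := restrict_mem ((mem_autGroup_iff F hRS).mp hα) hs.closed.1
      obtain ⟨g, hg, hgx⟩ := exists_aut_of_hom' F hr fun x => stronglyClosed_apply hT hr x x.2
      have hres : ∀ b : K.autGroup R, π b = 1 ↔
          (⟨_, CfsgLib.FusionSub.autGroup_mono hKF T (resHom hs.closed b).2⟩ :
            F.autGroup T) ∈ H' := fun b => stepChi_eq_one hd H' (resHom hs.closed b)
      rw [hres] at ha1 ⊢
      have hconj := (inferInstance : H'.Normal).conj_mem _ ha1 ⟨g, hg⟩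
      convert hconj using 1
      refine Subtype.ext (MulEquiv.ext fun x => Subtype.ext ?_)
      show (((α * (a : MulAut R) * α⁻¹) ⟨x, hs.closed.1 x.2⟩ : R) : Ω) =
        ((g ((resAut hs.closed a) ((g⁻¹ : MulAut T) x)) : T) : Ω)
      rw [MulAut.mul_apply, MulAut.mul_apply, hgx]
      refine congrArg (fun v : R => ((α v : R) : Ω)) (Subtype.ext ?_)
      show _ = (((resAut hs.closed a) ((g⁻¹ : MulAut T) x) : T) : Ω)
      rw [resAut_apply]
      refine congrArg (fun v : R => (((a : MulAut R) v : R) : Ω)) ?_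
      apply α.injective
      rw [MulAut.apply_inv_self]
      refine Subtype.ext (Eq.trans ?_ (hgx _))
      rw [MulAut.apply_inv_self]
    have hm : ∀ y, χz y ∈ R := fun y => apply_mem hχz.mem y
    refine ⟨(R.subtype.comp (a' : MulAut R).toMonoidHom).comp (χz.codRestrict R hm),
      ⟨a', hπa, χz, hχz, fun x _ => rfl⟩, fun x hφx hax => ?_⟩
    have hzR : z x ∈ R := apply_mem hz.mem x
    show (((α * (a : MulAut R) * α⁻¹) ⟨χz _, hm _⟩ : R) : Ω) = _
    rw [show (⟨χz ⟨_, hax⟩, hm _⟩ : R) = α ⟨z x, hzR⟩ from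
      Subtype.ext (hχzx x (hP x.2) hzR hax), MulAut.mul_apply, MulAut.mul_apply,
      MulAut.inv_apply_self]
    exact congrArg (fun v : R => ((α v : R) : Ω)) (Subtype.ext (hza x hzR).symm)
  have hover : rOf hT H' = R := by
    refine le_antisymm ((rOf_mono hle).trans hd.base.ge) fun x hx => ?_
    obtain ⟨hxS, hxH⟩ := mem_rOf.mp (hd.base.le hx)
    obtain ⟨k, hk⟩ := hS ⟨x, hxS⟩
    refine mem_rOf.mpr ⟨hxS, ?_⟩
    have h1 : (QuotientGroup.mk' (H'.subgroupOf H)) ⟨_, hxH⟩ = 1 :=
      eq_one_of_pow_prime_pow (k := k) hΔ (by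
        rw [← map_pow]
        refine (QuotientGroup.eq_one_iff _).mpr (Subgroup.mem_subgroupOf.mpr ?_)
        rw [Subgroup.coe_pow, ← map_pow, hk, map_one]
        exact H'.one_mem)
    exact Subgroup.mem_subgroupOf.mp ((QuotientGroup.eq_one_iff _).mp h1)
  have hK'w : K'.IsWeaklyNormalIn F p :=
    ⟨hK's, hF, invariant_trans hKi hK'K hKi.2.1 hinv⟩
  refine ⟨R, K', hover.symm, isNormalIn_of_self_centralizing hK'w
    (hover ▸ centralizerIn_rOf_le hH'), fun P φ hφ => mem_classSystem_of_mem hs hφ,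
    fun a ha => ?_, fun L hL hst => ?_⟩
  · have haK : (a : MulAut T) ∈ K.autGroup T :=
      CfsgLib.FusionSub.autGroup_mono (classSystem_le hRp) T ha
    have hc : Cl π p T (T.subtype.comp (a : MulAut T).toMonoidHom) 1 :=
      (mem_autGroup_iff K' hs.closed.1).mp ha
    have hTc : TCentric K T T := tCentric_top hs.closed
    have h1 := clT_of_cl hs hTc hc
    have h2 := ClT.of_aut (E := E) (χ := χ) (⟨a, haK⟩ : K.autGroup T) (le_refl T)
      (φ := T.subtype.comp (a : MulAut T).toMonoidHom) fun x => rfl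
    exact (stepChi_eq_one hd H' _).mp (clT_unique hs hTc h1 h2).symm
  · have hLK := weaklyNormal_of_le hS hKs hKF (hd.limit L hL hst) hL
    obtain ⟨X, hX⟩ := exists_isPPrimeResidual hRp hKs
    have h1 := Central.pPrimeResidual_mono hRp hLK hst.2 hX
    exact fun P φ hφ => hX.2.2 K' hK's (classSystem_index hRp hKs) P (h1 P hφ)

/-- The step of `p`-power index. -/
theorem env_pPower (hS : IsPGroup p S) (hEn : E.IsNormalIn F p) (hT : F.StronglyClosed T)
    {H H' : Subgroup (F.autGroup T)} [H'.Normal] (hle : H' ≤ H)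
    (hH' : (E.autGroup T).subgroupOf (F.autGroup T) ≤ H') {m : ℕ} (hm : H'.relIndex H = p ^ m)
    (h : Env F E p hT H) : Env F E p hT H' := by
  obtain ⟨R, K, hd⟩ := h
  obtain ⟨hKs, hF, hKi⟩ := hd.normal.1
  have hKF := hKi.1
  have hRS := hKi.2.1.1
  haveI := finite_of_le hRS
  haveI := finite_of_le hT.1
  have hRp := isPGroup_of_le hS hRS
  set R' := rOf hT H' with hR'
  have hR'R : R' ≤ R := (rOf_mono hle).trans hd.base.ge
  have hR'c : F.StronglyClosed R' := rOf_stronglyClosed hS hF hT hH'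
  haveI := finite_of_le hR'c.1
  have hR'p := isPGroup_of_le hS hR'c.1
  have hTR' : T ≤ R' := le_sup_left.trans (le_rOf hH')
  have hTK : K.StronglyClosed T :=
    ⟨hTR'.trans hR'R, fun Q hQ φ hφ x => hT.2 Q hQ φ (hKF Q hφ) x⟩
  haveI : Finite (↥H ⧸ H'.subgroupOf H) := by
    haveI := finite_autGroup F hT.1
    infer_instance
  have hΔ : ∀ d : ↥H ⧸ H'.subgroupOf H, d ^ p ^ m = 1 := fun d => by
    have hc : Nat.card (↥H ⧸ H'.subgroupOf H) = p ^ m := by
      rw [← Subgroup.index_eq_card]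
      exact hm
    rw [← hc]
    exact pow_card_eq_one'
  have hhyp : K.hyperfocalSubgroup p ≤ R' := by
    refine (Subgroup.closure_le _).mpr ?_
    rintro _ ⟨P, α, x, hP, hα, rfl⟩
    haveI := finite_autGroup K hP
    let M : Subgroup (K.autGroup P) :=
      { carrier := {b | ∀ x : P, (x : Ω)⁻¹ * (((b : MulAut P) x : P) : Ω) ∈ R'}
        one_mem' := fun x => by simp
        mul_mem' := fun {b c} hb hc x => by
          have := R'.mul_mem (hc x) (hb ((c : MulAut P) x))
          simpa [mul_assoc] using this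
        inv_mem' := fun {b} hb x => by
          simpa using R'.inv_mem (hb ((b : MulAut P)⁻¹ x)) }
    suffices h : pResidual p (K.autGroup P) ≤ M from h hα x
    refine (Subgroup.closure_le _).mpr fun b hb => ?_
    intro x
    -- the action in `H / H'`
    have hxH : ∀ y : P, act hT ⟨y, hRS (hP y.2)⟩ ∈ H := fun y =>
      (mem_rOf.mp (hd.base.le (hP y.2))).2
    let f : P → ↥H ⧸ H'.subgroupOf H := fun y => QuotientGroup.mk' _ ⟨_, hxH y⟩
    have hbK := (mem_autGroup_iff K hP).mp b.2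
    obtain ⟨ψ, hψ, hlift⟩ := exists_lift_mod hRp hKs hTK hbK
    obtain ⟨g, hgx, hg⟩ := act_transport hT le_sup_right (hKF _ hψ)
    obtain ⟨g', hg', hg'x⟩ := exists_aut_of_hom' K (restrict_mem hψ le_sup_right)
      fun t => stronglyClosed_apply hTK hψ _ t.2
    have hgH : g ∈ H := hd.aut g (by
      convert hg' using 1
      exact MulEquiv.ext fun t => Subtype.ext ((hgx t).trans (hg'x t).symm))
    set G : ↥H ⧸ H'.subgroupOf H := QuotientGroup.mk' _ ⟨g, hgH⟩ with hG
    have hstep : ∀ y : P, f ((b : MulAut P) y) = G * f y * G⁻¹ := by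
      intro y
      set y' : ↥(P ⊔ T) := Subgroup.inclusion le_sup_left y
      have hdT : ψ y' * (((b : MulAut P) y : P) : Ω)⁻¹ ∈ T := hlift y
      have e : act hT ⟨((b : MulAut P) y : P), hRS (hP ((b : MulAut P) y).2)⟩ =
          (act hT ⟨_, hT.1 hdT⟩)⁻¹ * (g * act hT ⟨y, hRS (hP y.2)⟩ * g⁻¹) := by
        have hgy : act hT ⟨ψ y', apply_mem (hKF _ hψ) y'⟩ =
            g * act hT ⟨y, hRS (hP y.2)⟩ * g⁻¹ := hg y'
        rw [← hgy, ← map_inv, ← map_mul]
        refine congrArg (act hT) (Subtype.ext ?_)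
        show (((b : MulAut P) y : P) : Ω) = (ψ y' * (((b : MulAut P) y : P) : Ω)⁻¹)⁻¹ * ψ y'
        group
      have h1 : act hT ⟨_, hT.1 hdT⟩ ∈ H' := act_mem_of_mem hH' hdT
      show QuotientGroup.mk' _ (⟨_, hxH _⟩ : H) = G * f y * G⁻¹
      rw [show (⟨_, hxH ((b : MulAut P) y)⟩ : H) =
        (⟨_, hle h1⟩ : H)⁻¹ * (⟨g, hgH⟩ * ⟨_, hxH y⟩ * (⟨g, hgH⟩ : H)⁻¹) from Subtype.ext e,
        map_mul, map_mul, map_mul, map_inv, map_inv,
        show QuotientGroup.mk' (H'.subgroupOf H) ⟨_, hle h1⟩ = 1 from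
          (QuotientGroup.eq_one_iff _).mpr (Subgroup.mem_subgroupOf.mpr h1), inv_one, one_mul]
    have hpow : ∀ (n : ℕ) (y : P), f (((b : MulAut P) ^ n) y) = G ^ n * f y * (G ^ n)⁻¹ := by
      intro n
      induction n with
      | zero => simp
      | succ n ih =>
        intro y
        rw [pow_succ', MulAut.mul_apply, hstep, ih, pow_succ']
        group
    have hbc : (orderOf (b : MulAut P)).Coprime p := by rwa [Subgroup.orderOf_coe]
    obtain ⟨j, hj⟩ := exists_pow_eq_self_of_coprime (x := (b : MulAut P)) (n := p ^ m)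
      (hbc.symm.pow_left m)
    have hfb : f ((b : MulAut P) x) = f x := by
      conv_lhs => rw [← hj, ← pow_mul, hpow, pow_mul, hΔ, one_pow, one_mul, inv_one, mul_one]
    refine mem_rOf.mpr ⟨S.mul_mem (S.inv_mem (hRS (hP x.2))) (hRS (hP ((b : MulAut P) x).2)), ?_⟩
    have h1 : (QuotientGroup.mk' (H'.subgroupOf H))
          ((⟨_, hxH x⟩ : H)⁻¹ * ⟨_, hxH ((b : MulAut P) x)⟩) = 1 := by
        rw [map_mul, map_inv]
        exact inv_mul_eq_one.mpr hfb.symm
    have h2 := Subgroup.mem_subgroupOf.mp ((QuotientGroup.eq_one_iff _).mp h1)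
    rw [Subgroup.coe_mul, Subgroup.coe_inv, ← map_inv, ← map_mul] at h2
    exact h2
  obtain ⟨K', hK's, hK'i⟩ := CfsgLib.FusionBasics.PPower.exists_pPowerIndex hRp hKs hR'R hhyp
  have hn : (R'.subgroupOf R).Normal :=
    ⟨fun n hn s => stronglyClosed_conj hR'c (hRS s.2) hn⟩
  have hK'K := (Cfsg.Agent.S5120.result p hRp K hKs R' hR'R hn hhyp K' hK's hK'i).1.2.2
  have hK'F : K'.IsSubsystemOf F := fun P φ hφ => hKF P (hK'i.1 P hφ)
  have hinv : InvCond K' F := by
    have hcore : ∀ P : Subgroup Ω, K'.Hom P ⊆ (invariantCore K' F).Hom P := by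
      refine le_of_pPrime_le hR'p hK's hK'i.1 hR'R _ fun P hP γ hγ hc => ?_
      refine (mem_autGroup_iff _ hP).mpr
        ⟨(mem_autGroup_iff K' hP).mp (pPrime_mem_of_hasPPowerIndexIn hK'i hP hγ hc),
          fun a ha => ?_⟩
      let η : P →* Ω := R'.subtype.comp (a.toMonoidHom.comp (Subgroup.inclusion hP))
      have hη : η ∈ F.Hom P :=
        restrict_mem_apply ((mem_autGroup_iff F hR'c.1).mp ha) hP fun x => rfl
      have hr : η.range = autImage a P := by
        ext y
        constructor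
        · rintro ⟨x, rfl⟩
          exact mem_autImage _ x.2
        · rintro ⟨x, hx, rfl⟩
          exact ⟨⟨x, hx⟩, rfl⟩
      set e := isoOfHom η (F.injective_of_mem hη) hr
      have he : InHom F e := mem_of_apply_eq hη fun _ => rfl
      have hγ' : MulAut.congr e γ ∈ K.autGroup (autImage a P) :=
        congr_mem_sub hKi he (hP.trans hR'R) hγ
      have hmem := pPrime_mem_of_hasPPowerIndexIn hK'i (autImage_le a P) hγ'
        (by rwa [(MulAut.congr e).orderOf_eq])
      refine ⟨_, (mem_autGroup_iff K' (autImage_le a P)).mp hmem, fun x hxT hφx => ?_⟩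
      show (((MulAut.congr e γ) (e x) : ↥(autImage a P)) : Ω) = _
      rw [MulAut.congr_apply]
      simp only [MulEquiv.trans_apply, MulEquiv.symm_apply_apply]
      rfl
    intro P hPT φ hφ α hα
    obtain ⟨χ, hχ, hχx⟩ := (hcore P hφ).2 α hα
    exact ⟨χ, hχ, fun x hφx _ => hχx x (hPT x.2) hφx⟩
  have hK'w : K'.IsWeaklyNormalIn F p := ⟨hK's, hF, invariant_trans hKi hK'K hR'c hinv⟩
  refine ⟨R', K', rfl, isNormalIn_of_self_centralizing hK'w (centralizerIn_rOf_le hH'),
    subsystem_of_pPowerIndex hRp hEn.1.1 hd.contains hK'i hTR', fun a ha => ?_,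
    fun L hL hst => ?_⟩
  · have hTn : K'.IsFullyNormalized T := by
      refine ⟨hTR', fun Q ⟨φ, hφ, hr⟩ => ?_⟩
      have hQT : Q ≤ T := by
        rw [← hr]
        rintro _ ⟨x, rfl⟩
        exact hT.2 T le_rfl φ (hK'F T hφ) x
      rw [Subgroup.eq_of_le_of_card_ge hQT
        (by rw [← hr, card_range_eq (K'.injective_of_mem hφ)])]
    suffices h : K'.autGroup T ≤ H'.map (F.autGroup T).subtype by
      obtain ⟨c, hc, hca⟩ := h ha
      exact (Subtype.ext hca : c = a) ▸ hc
    refine autGroup_le_of_pPrime hR'p hK's hTn (fun c hc => ?_) fun γ hγ hco => ?_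
    · obtain ⟨r, hr, hrx⟩ := mem_autInducedBy_iff.mp hc
      obtain ⟨hrS, hrH⟩ := mem_rOf.mp hr
      exact ⟨_, hrH, MulEquiv.ext fun x => Subtype.ext (hrx x).symm⟩
    · have hγK := CfsgLib.FusionSub.autGroup_mono hK'i.1 T hγ
      have hγF : γ ∈ F.autGroup T := CfsgLib.FusionSub.autGroup_mono hKF T hγK
      refine ⟨⟨γ, hγF⟩, ?_, rfl⟩
      have hγH : (⟨γ, hγF⟩ : F.autGroup T) ∈ H := hd.aut _ hγK
      set d : ↥H ⧸ H'.subgroupOf H := QuotientGroup.mk' _ ⟨_, hγH⟩ with hdd
      obtain ⟨j, hj⟩ := exists_pow_eq_self_of_coprime (x := γ) (n := p ^ m)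
        (hco.symm.pow_left m)
      have h1 : d = 1 := by
        have e : (⟨_, hγH⟩ : H) = ((⟨_, hγH⟩ : H) ^ p ^ m) ^ j :=
          Subtype.ext (Subtype.ext (show γ = ((γ ^ p ^ m) ^ j) from hj.symm))
        rw [hdd, e, map_pow, map_pow, hΔ, one_pow]
      exact Subgroup.mem_subgroupOf.mp ((QuotientGroup.eq_one_iff _).mp h1)
  · refine subsystem_of_pPowerIndex hRp hL.1 (hd.limit L hL hst) hK'i ?_
    rw [← hst.1]
    exact (Central.hyperfocal_mono (hd.limit L hL hst)).trans hhyp

end CfsgLib.FusionBasics.Reduction
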